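/-
Finite groups with cyclic Sylow `p`-subgroups all of whose `p'`-subgroups are abelian: general facts and
reductions by normal subgroups.

Main results (namespace `Cfsg.Agent.CyclicSylowAbelian`):
* `Hyp`, `Hyp.commute`, `Hyp.subgroup`, `Hyp.quotient`
* `fpf`: a `p'`-element fixing a nontrivial element of a cyclic `p`-group centralizes it
* `exists_moving`, `mem_of_moving`
* `concl_of_pPrime_normal`, `concl_of_pGroup_normal`
-/
import Cfsg.Agent.EqLemmas
import Cfsg.Agent.Lib.BrauerPairs.CyclicFree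
import Cfsg.Agent.Lib.Transfer.Tate
import Cfsg.Agent.Lib.Transfer.Criteria
import Cfsg.Agent.Lib.Coprime.Basic

set_option autoImplicit false

namespace Cfsg.Agent.CyclicSylowAbelian

open Subgroup

variable {G : Type*} [Group G] {p : ℕ}

/-- Cyclic Sylow `p`-subgroups and abelian `p'`-subgroups. -/
def Hyp (p : ℕ) (G : Type*) [Group G] : Prop :=
  (∀ P : Sylow p G, IsCyclic P) ∧ ∀ H : Subgroup G, ¬ p ∣ Nat.card H → IsMulCommutative H

/-- The conclusion: a normal `p`-complement or a normal Sylow `p`-subgroup. -/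
def Concl (p : ℕ) (G : Type*) [Group G] : Prop :=
  Cfsg.HasNormalPComplement p G ∨ ∀ P : Sylow p G, (P : Subgroup G).Normal

theorem Hyp.commute (h : Hyp p G) {H : Subgroup G} (hH : ¬ p ∣ Nat.card H) {x y : G} (hx : x ∈ H)
    (hy : y ∈ H) : x * y = y * x :=
  congrArg Subtype.val ((h.2 H hH).is_comm.comm ⟨x, hx⟩ ⟨y, hy⟩)

theorem isCyclic_of_le [Finite G] [Fact p.Prime] (h : Hyp p G) {R : Subgroup G} (hR : IsPGroup p R) :
    IsCyclic R := by
  obtain ⟨P, hP⟩ := hR.exists_le_sylow
  haveI := h.1 P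
  exact isCyclic_of_injective (Subgroup.inclusion hP) (Subgroup.inclusion_injective hP)

theorem Hyp.subgroup [Finite G] [Fact p.Prime] (h : Hyp p G) (H : Subgroup G) : Hyp p H := by
  refine ⟨fun P => ?_, fun K hK => ?_⟩
  · haveI := isCyclic_of_le h (P.2.map H.subtype)
    exact isCyclic_of_injective ((P : Subgroup H).equivMapOfInjective H.subtype H.subtype_injective).toMonoidHom
      (MulEquiv.injective _)
  · rw [← card_map_of_injective H.subtype_injective] at hK
    exact ⟨⟨fun a b => Subtype.ext (Subtype.ext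
      (h.commute hK (mem_map_of_mem H.subtype a.2) (mem_map_of_mem H.subtype b.2)))⟩⟩

theorem Hyp.quotient [Finite G] [hp : Fact p.Prime] (h : Hyp p G) (N : Subgroup G) [N.Normal]
    (hN : ¬ p ∣ Nat.card N ∨ IsPGroup p N) : Hyp p (G ⧸ N) := by
  refine ⟨fun Q => ?_, fun K hK => ?_⟩
  · obtain ⟨P, rfl⟩ := Sylow.mapSurjective_surjective (QuotientGroup.mk'_surjective N) p Q
    haveI := h.1 P
    exact isCyclic_of_surjective ((QuotientGroup.mk' N).subgroupMap (P : Subgroup G))
      ((QuotientGroup.mk' N).subgroupMap_surjective _)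
  · set M := K.comap (QuotientGroup.mk' N) with hM
    let f := (QuotientGroup.mk' N).subgroupComap K
    have hf : Function.Surjective f :=
      MonoidHom.subgroupComap_surjective_of_surjective _ _ (QuotientGroup.mk'_surjective N)
    have hker : ∀ x : M, f x = 1 ↔ x ∈ N.subgroupOf M := fun x => by
      rw [Subtype.ext_iff]
      exact QuotientGroup.eq_one_iff (x : G)
    haveI : (N.subgroupOf M).Normal := normal_subgroupOf
    have hNM : N ≤ M := fun x hx => by
      rw [hM, mem_comap, show (QuotientGroup.mk' N) x = 1 from (QuotientGroup.eq_one_iff x).2 hx]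
      exact K.one_mem
    have hidx : (N.subgroupOf M).index = Nat.card K := by
      rw [show N.subgroupOf M = f.ker from SetLike.ext fun x => (hker x).symm, index_ker,
        MonoidHom.range_eq_top.2 hf, Subgroup.card_top]
    have hcard : Nat.card (N.subgroupOf M) = Nat.card N := Nat.card_congr (subgroupOfEquivOfLe hNM).toEquiv
    rcases hN with hN | hN
    · have hMc : ¬ p ∣ Nat.card M := by
        rw [← card_mul_index (N.subgroupOf M), hidx, hcard]
        exact hp.out.not_dvd_mul hN hK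
      refine ⟨⟨fun a b => ?_⟩⟩
      obtain ⟨x, rfl⟩ := hf a
      obtain ⟨y, rfl⟩ := hf b
      rw [← map_mul, ← map_mul, Subtype.ext (h.commute hMc x.2 y.2) (a1 := x * y) (a2 := y * x)]
    · obtain ⟨j, hj⟩ := hN.exists_card_eq
      have hcop : (Nat.card (N.subgroupOf M)).Coprime (N.subgroupOf M).index := by
        rw [hidx, hcard, hj]
        exact (hp.out.coprime_iff_not_dvd.2 hK).pow_left j
      obtain ⟨L, hL⟩ := exists_right_complement'_of_coprime hcop
      have hLc : ¬ p ∣ Nat.card (L.map M.subtype) := by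
        rw [card_map_of_injective M.subtype_injective, ← hL.symm.index_eq_card, hidx]
        exact hK
      refine ⟨⟨fun a b => ?_⟩⟩
      have hsur : ∀ a : K, ∃ l : M, l ∈ L ∧ f l = a := fun a => by
        obtain ⟨x, rfl⟩ := hf a
        obtain ⟨⟨n, l⟩, hnl⟩ := hL.2 x
        refine ⟨l, l.2, ?_⟩
        rw [← hnl, map_mul, (hker _).2 n.2, one_mul]
      obtain ⟨x, hx, rfl⟩ := hsur a
      obtain ⟨y, hy, rfl⟩ := hsur b
      rw [← map_mul, ← map_mul, Subtype.ext (h.commute hLc (mem_map_of_mem M.subtype hx)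
        (mem_map_of_mem M.subtype hy)) (a1 := x * y) (a2 := y * x)]

theorem fpf [Finite G] [hp : Fact p.Prime] {P : Subgroup G} (hP : IsPGroup p P) (hcyc : IsCyclic P)
    {x z : G} (hx : x ∈ normalizer (P : Set G)) (hxp : (orderOf x).Coprime p) (hz : z ∈ P) (hz1 : z ≠ 1)
    (hc : x * z = z * x) : x ∈ centralizer (P : Set G) := by
  obtain ⟨k, hk⟩ := BrauerPairs.exists_pow_mem_centralizer_of_fix hP hcyc hx hz hz1
    (mul_inv_eq_iff_eq_mul.2 hc)
  exact Transfer.mem_of_pow_mem_of_coprime (hxp.pow_right k) (by rw [pow_orderOf_eq_one]; exact one_mem _) hk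

theorem comm_of_cyclic {P : Subgroup G} (hcyc : IsCyclic P) {a b : G} (ha : a ∈ P) (hb : b ∈ P) :
    a * b = b * a := by
  haveI := hcyc
  exact congrArg Subtype.val (IsMulCommutative.is_comm.comm (⟨a, ha⟩ : P) ⟨b, hb⟩)

/-- A moving `p'`-element generates the cyclic `p`-group by commutators. -/
theorem exists_eq_commutator [Finite G] [Fact p.Prime] {P : Subgroup G} (hP : IsPGroup p P) (hcyc : IsCyclic P)
    {x : G} (hx : x ∈ normalizer (P : Set G)) (hxp : (orderOf x).Coprime p)
    (hxC : x ∉ centralizer (P : Set G)) {w : G} (hw : w ∈ P) : ∃ z ∈ P, w = z⁻¹ * (x * z * x⁻¹) := by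
  let f : P → P := fun z => z⁻¹ * ⟨x * z * x⁻¹, (mem_normalizer_iff.1 hx _).1 z.2⟩
  have hf : Function.Injective f := by
    intro a b hab
    have e : (a : G)⁻¹ * (x * a * x⁻¹) = (b : G)⁻¹ * (x * b * x⁻¹) := congrArg Subtype.val hab
    set u := (b : G) * (a : G)⁻¹ with hu
    have hxu : x * u * x⁻¹ = u := by
      calc x * u * x⁻¹ = (x * b * x⁻¹) * (x * a * x⁻¹)⁻¹ := by rw [hu]; group
        _ = (b * ((a : G)⁻¹ * (x * a * x⁻¹))) * (x * a * x⁻¹)⁻¹ := by rw [e]; group
        _ = u := by rw [hu]; group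
    by_contra hne
    refine hxC (fpf hP hcyc hx hxp (P.mul_mem b.2 (P.inv_mem a.2)) ?_ (mul_inv_eq_iff_eq_mul.1 hxu))
    rw [Ne, mul_inv_eq_one]
    exact fun hba => hne (Subtype.ext hba.symm)
  obtain ⟨z, hz⟩ := Finite.injective_iff_surjective.1 hf ⟨w, hw⟩
  exact ⟨z, z.2, (congrArg Subtype.val hz).symm⟩

theorem exists_moving [Finite G] [hp : Fact p.Prime] (h : Hyp p G) (hnc : ¬ Cfsg.HasNormalPComplement p G)
    (P : Sylow p G) : ∃ x ∈ normalizer ((P : Subgroup G) : Set G),
      (orderOf x).Coprime p ∧ x ∉ centralizer ((P : Subgroup G) : Set G) := by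
  by_contra hh
  push Not at hh
  haveI := h.1 P
  haveI : IsMulCommutative (P : Subgroup G) := IsCyclic.isMulCommutative
  refine hnc (Transfer.hasNormalPComplement_of_normalizer_le_centralizer P
    (Transfer.normalizer_le_centralizer_of_primePow P fun q hq hqp _ y hy ⟨k, hk⟩ => hh y hy ?_))
  rw [hk]
  exact ((Nat.coprime_primes hq hp.out).2 hqp).pow_left k

theorem not_dvd_sup [Finite G] [hp : Fact p.Prime] {A B : Subgroup G} (hAB : B ≤ normalizer (A : Set G))
    (hA : ¬ p ∣ Nat.card A) (hB : ¬ p ∣ Nat.card B) : ¬ p ∣ Nat.card (A ⊔ B : Subgroup G) := by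
  intro hd
  obtain ⟨x, hx⟩ := exists_prime_orderOf_dvd_card' (G := (A ⊔ B : Subgroup G)) p hd
  haveI : (A.subgroupOf (A ⊔ B)).Normal := normal_subgroupOf_of_le_normalizer (sup_le le_normalizer hAB)
  set e := QuotientGroup.mk' (A.subgroupOf (A ⊔ B))
  have hBtop : (B.subgroupOf (A ⊔ B)).map e = ⊤ := by
    rw [eq_top_iff]
    rintro z -
    obtain ⟨⟨y, hy⟩, rfl⟩ := QuotientGroup.mk'_surjective _ z
    obtain ⟨a, ha, b, hb, rfl⟩ := (Coprime.mem_sup_iff hAB).1 hy
    refine ⟨⟨b, le_sup_right (α := Subgroup G) hb⟩, hb, ?_⟩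
    rw [QuotientGroup.mk'_eq_mk']
    refine ⟨⟨b⁻¹ * a * b, le_sup_left (α := Subgroup G) ?_⟩, ?_, ?_⟩
    · exact (mem_normalizer_iff''.1 (hAB hb) a).1 ha
    · exact (mem_normalizer_iff''.1 (hAB hb) a).1 ha
    · exact Subtype.ext (by simp [mul_assoc])
  have hq : ¬ p ∣ Nat.card ((↥(A ⊔ B)) ⧸ A.subgroupOf (A ⊔ B)) := fun hd' => by
    rw [← card_top, ← hBtop] at hd'
    exact hB (Nat.card_congr (subgroupOfEquivOfLe (le_sup_right : B ≤ A ⊔ B)).toEquiv ▸
      hd'.trans (card_map_dvd _ _))
  have hd2 : p ∣ Nat.card (A.subgroupOf (A ⊔ B)) := by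
    rw [← card_mul_index (A.subgroupOf (A ⊔ B)), index_eq_card] at hd
    exact (hp.out.dvd_mul.1 hd).resolve_right hq
  exact hA (Nat.card_congr (subgroupOfEquivOfLe (le_sup_left : A ≤ A ⊔ B)).toEquiv ▸ hd2)

theorem not_dvd_zpowers [hp : Fact p.Prime] {x : G} (hx : (orderOf x).Coprime p) :
    ¬ p ∣ Nat.card (zpowers x) := by
  rw [Nat.card_zpowers]
  exact hp.out.coprime_iff_not_dvd.1 hx.symm

/-- A `p'`-element normalizing a `p'`-subgroup centralizes it. -/
theorem Hyp.commute_of_normalizes [Finite G] [Fact p.Prime] (h : Hyp p G) {A : Subgroup G} (hA : ¬ p ∣ Nat.card A)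
    {x : G} (hx : (orderOf x).Coprime p) (hn : x ∈ normalizer (A : Set G)) {a : G} (ha : a ∈ A) :
    x * a = a * x :=
  h.commute (not_dvd_sup (zpowers_le.2 hn) hA (not_dvd_zpowers hx))
    (le_sup_right (α := Subgroup G) (mem_zpowers x)) (le_sup_left (α := Subgroup G) ha)

theorem concl_of_pPrime_normal [Finite G] [hp : Fact p.Prime] (h : Hyp p G) (U : Subgroup G) [U.Normal]
    (hU : ¬ p ∣ Nat.card U) (ih : Concl p (G ⧸ U)) : Concl p G := by
  by_cases hnc : Cfsg.HasNormalPComplement p G
  · exact Or.inl hnc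
  right
  rcases ih with ih | ih
  · refine absurd ?_ hnc
    obtain ⟨k, hk⟩ := Transfer.exists_index_pResidual (G := G ⧸ U) (p := p)
    set K := Cfsg.pResidual p (G ⧸ U) with hKdef
    have hKn : K.Normal := Transfer.pResidual_normal
    set M := K.comap (QuotientGroup.mk' U) with hM
    haveI : M.Normal := hKn.comap _
    have hMi : M.index = p ^ k := by
      rw [hM, index_comap_of_surjective _ (QuotientGroup.mk'_surjective U), hk]
    have hMc : Nat.card M = Nat.card U * Nat.card K := by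
      have h1 := M.card_mul_index
      have h2 := K.card_mul_index
      rw [hk] at h2
      rw [hMi, U.card_eq_card_quotient_mul_card_subgroup, ← h2] at h1
      exact Nat.eq_of_mul_eq_mul_right (pow_pos hp.out.pos k) (h1.trans (by ring))
    have hMcop : (Nat.card M).Coprime p := by
      rw [hMc]
      exact Nat.Coprime.mul_left (hp.out.coprime_iff_not_dvd.2 hU).symm
        (Transfer.hasNormalPComplement_iff_coprime.1 ih)
    refine ⟨default, M, inferInstance, Transfer.isComplement'_of_coprime_of_index _ hMcop hMi⟩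
  · intro P
    obtain ⟨x, hxN, hxp, hxC⟩ := exists_moving h hnc P
    have hPU : ∀ w ∈ (P : Subgroup G), ∀ u ∈ U, w * u = u * w := by
      intro w hw u hu
      obtain ⟨z, hz, rfl⟩ := exists_eq_commutator P.2 (h.1 P) hxN hxp hxC hw
      have hx' : ∀ v ∈ U, x * v * x⁻¹ = v := fun v hv => mul_inv_eq_iff_eq_mul.2
        (h.commute_of_normalizes hU hxp (normalizer_eq_top (H := U) ▸ mem_top x) hv)
      have hz' : ∀ g : G, ∀ v ∈ U, g * v * g⁻¹ ∈ U := fun g v hv => ‹U.Normal›.conj_mem v hv g
      have hxi : ∀ v ∈ U, x⁻¹ * v * x = v := fun v hv => by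
        conv_lhs => rw [← hx' v hv]
        group
      rw [← mul_inv_eq_iff_eq_mul]
      calc z⁻¹ * (x * z * x⁻¹) * u * (z⁻¹ * (x * z * x⁻¹))⁻¹
          = z⁻¹ * (x * (z * (x⁻¹ * u * x) * z⁻¹) * x⁻¹) * z := by group
        _ = u := by rw [hxi u hu, hx' _ (hz' z u hu)]; group
    obtain ⟨hn⟩ : Nonempty ((P.mapSurjective (QuotientGroup.mk'_surjective U) : Subgroup (G ⧸ U)).Normal) :=
      ⟨ih _⟩
    set L := ((P : Subgroup G).map (QuotientGroup.mk' U)).comap (QuotientGroup.mk' U) with hL
    have hLn : L.Normal := Subgroup.Normal.comap (by simpa using hn) _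
    have hLeq : L = (P : Subgroup G) ⊔ U := by rw [hL, comap_map_eq, QuotientGroup.ker_mk']
    have hLN : L ≤ normalizer ((P : Subgroup G) : Set G) := by
      rw [hLeq]
      refine sup_le le_normalizer (fun u hu => ?_)
      refine centralizer_le_normalizer _ (mem_centralizer_iff.2 fun w hw => hPU w hw u hu)
    refine ⟨fun w hw g => ?_⟩
    have hgw : IsPGroup p (zpowers (g * w * g⁻¹)) := by
      have : zpowers (g * w * g⁻¹) = (zpowers w).map (MulAut.conj g).toMonoidHom := by
        rw [MonoidHom.map_zpowers]; rfl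
      rw [this]
      exact (P.2.to_le (zpowers_le.2 hw)).map _
    have hmem : g * w * g⁻¹ ∈ normalizer ((P : Subgroup G) : Set G) :=
      hLN (hLn.conj_mem w (hLeq ▸ le_sup_left (α := Subgroup G) hw) g)
    exact (P.3 (IsPGroup.to_sup_of_normal_right' hgw P.2 (zpowers_le.2 hmem)) le_sup_right).le
      (mem_sup_left (mem_zpowers _))

theorem concl_of_pGroup_normal [Finite G] [hp : Fact p.Prime] (h : Hyp p G) (R : Subgroup G) [hRn : R.Normal]
    (hR : IsPGroup p R) (ih : Concl p (G ⧸ R)) : Concl p G := by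
  by_cases hnc : Cfsg.HasNormalPComplement p G
  · exact Or.inl hnc
  right
  intro P
  have hRP : R ≤ (P : Subgroup G) := hR.le_sylow_of_normal P
  suffices hn : ((P : Subgroup G).map (QuotientGroup.mk' R)).Normal by
    have := hn.comap (QuotientGroup.mk' R)
    rwa [comap_map_eq, QuotientGroup.ker_mk', sup_eq_left.2 hRP] at this
  rcases ih with ih | ih
  · obtain ⟨x, hxN, hxp, hxC⟩ := exists_moving h hnc P
    set K := Cfsg.pResidual p (G ⧸ R)
    have hKn : K.Normal := Transfer.pResidual_normal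
    set M := K.comap (QuotientGroup.mk' R) with hM
    have hMn : M.Normal := hKn.comap _
    obtain ⟨k, hk⟩ := Transfer.exists_index_pResidual (G := G ⧸ R) (p := p)
    have hMi : M.index = p ^ k := by
      rw [hM, index_comap_of_surjective _ (QuotientGroup.mk'_surjective R), hk]
    have hxM : x ∈ M := mem_comap.2 (Transfer.mem_pResidual_of_coprime
      (hxp.coprime_dvd_left (orderOf_map_dvd _ _)))
    have hPM : (P : Subgroup G) ≤ M := by
      intro w hw
      obtain ⟨z, hz, rfl⟩ := exists_eq_commutator P.2 (h.1 P) hxN hxp hxC hw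
      rw [show z⁻¹ * (x * z * x⁻¹) = z⁻¹ * x * z * x⁻¹ by group]
      exact M.mul_mem (by simpa using hMn.conj_mem x hxM z⁻¹) (M.inv_mem hxM)
    have hMtop : M = ⊤ := by
      rw [← index_eq_one, hMi]
      refine Nat.eq_one_of_dvd_coprimes (Nat.coprime_comm.1 ?_) (dvd_refl _) (hMi ▸ index_dvd_of_le hPM)
      exact ((hp.out.coprime_iff_not_dvd.2 P.not_dvd_index).pow_left k).symm
    have hKtop : K = ⊤ := by
      apply comap_injective (QuotientGroup.mk'_surjective R)
      rw [← hM, hMtop, comap_top]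
    have hq : ¬ p ∣ Nat.card (G ⧸ R) := by
      have := Transfer.hasNormalPComplement_iff_coprime.1 ih
      rw [show Cfsg.pResidual p (G ⧸ R) = K from rfl, hKtop, card_top] at this
      exact hp.out.coprime_iff_not_dvd.1 this.symm
    have hbot : (P : Subgroup G).map (QuotientGroup.mk' R) = ⊥ := by
      obtain ⟨j, hj⟩ := (P.2.map (QuotientGroup.mk' R)).exists_card_eq
      refine eq_bot_of_card_eq _ ?_
      rcases Nat.eq_zero_or_pos j with h0 | h0
      · rw [hj, h0, pow_zero]
      · exact absurd ((dvd_pow_self p h0.ne').trans (hj ▸ card_subgroup_dvd_card _)) hq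
    rw [hbot]
    infer_instance
  · exact ih (P.mapSurjective (QuotientGroup.mk'_surjective R))

end Cfsg.Agent.CyclicSylowAbelian
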