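/-
The simple case: local structure.

Main results (namespace `Cfsg.Agent.CyclicSylowAbelian.Ctx`):
* `proper_cases`, `normalizer_le`, `eq_of_mem`, `centralizer_le`, `odd_p`
* `exists_compl`: an abelian complement `X` of `P` in `N(P)`
-/
import Cfsg.Agent.Lib.CyclicSylowAbelian.Basic
import Cfsg.Agent.Lib.Frobenius.Complement

set_option autoImplicit false

namespace Cfsg.Agent.CyclicSylowAbelian

open Subgroup

variable {G : Type*} [Group G] {p : ℕ}

/-- A minimal counterexample. -/
structure Ctx (p : ℕ) (G : Type*) [Group G] : Prop where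
  hyp : Hyp p G
  simple : IsSimpleGroup G
  nc : ¬ Cfsg.HasNormalPComplement p G
  comm : ¬ IsMulCommutative G
  sub : ∀ H : Subgroup G, H ≠ ⊤ → Concl p H

namespace Ctx

variable [Finite G] [hp : Fact p.Prime] (C : Ctx p G)
include C

theorem centralizer_ne_top {z : G} (hz : z ≠ 1) : centralizer ({z} : Set G) ≠ ⊤ := fun h => by
  have hz' : z ∈ center G := mem_center_iff.2 fun g =>
    mem_centralizer_singleton_iff.1 (h ▸ mem_top g : g ∈ centralizer ({z} : Set G))
  rcases C.simple.eq_bot_or_eq_top_of_normal (center G) inferInstance with h1 | h1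
  · exact hz (mem_bot.1 (h1 ▸ hz'))
  · exact C.comm ⟨⟨fun a b => (mem_center_iff.1 (h1 ▸ mem_top b : b ∈ center G) a)⟩⟩

theorem normalizer_ne_top {R : Subgroup G} (h1 : R ≠ ⊥) (h2 : R ≠ ⊤) :
    normalizer (R : Set G) ≠ ⊤ := fun h =>
  (C.simple.eq_bot_or_eq_top_of_normal R (normalizer_eq_top_iff.1 h)).elim h1 h2

theorem ne_top_of_isPGroup {R : Subgroup G} (hR : IsPGroup p R) : R ≠ ⊤ := fun h => by
  haveI := C.simple
  haveI := (h ▸ hR : IsPGroup p (⊤ : Subgroup G))
  have hG : IsPGroup p G := IsPGroup.of_equiv this Subgroup.topEquiv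
  exact C.nc (Transfer.hasNormalPComplement_of_isPGroup hG)

theorem odd_p : p ≠ 2 := by
  intro h
  subst h
  by_cases h2 : 2 ∣ Nat.card G
  · exact C.nc (Transfer.hasNormalPComplement_of_normalizer_le_centralizer default
      (IsCyclic.normalizer_le_centralizer ((Nat.minFac_eq_two_iff _).2 h2) (C.hyp.1 default)))
  · exact C.nc (Transfer.hasNormalPComplement_of_not_dvd h2)

theorem dvd_card : p ∣ Nat.card G := by
  by_contra h
  exact C.nc (Transfer.hasNormalPComplement_of_not_dvd h)

theorem normalizer_le (P : Sylow p G) {R : Subgroup G} (hR : R ≤ (P : Subgroup G)) (hne : R ≠ ⊥) :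
    normalizer (R : Set G) ≤ normalizer ((P : Subgroup G) : Set G) := by
  obtain ⟨z, hzR, hz⟩ : ∃ z ∈ R, orderOf z = p := by
    obtain ⟨j, hj⟩ := (P.2.to_le hR).exists_card_eq
    have hd : p ∣ Nat.card R := by
      rcases Nat.eq_zero_or_pos j with h0 | h0
      · exact absurd (eq_bot_of_card_eq _ (by rw [hj, h0, pow_zero])) hne
      · exact hj ▸ dvd_pow_self p h0.ne'
    obtain ⟨z, hz⟩ := exists_prime_orderOf_dvd_card' (G := R) p hd
    exact ⟨z, z.2, by rw [Subgroup.orderOf_coe, hz]⟩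
  set Z := zpowers z
  have hZP : Z ≤ (P : Subgroup G) := zpowers_le.2 (hR hzR)
  have hZne : Z ≠ ⊥ := fun h => by
    rw [zpowers_eq_bot] at h; rw [h, orderOf_one] at hz; exact hp.out.ne_one hz.symm
  have huniq : ∀ a ∈ (P : Subgroup G), orderOf a = p → zpowers a ≤ Z := by
    intro a ha hao
    by_contra hle
    have hA : Nat.card (zpowers a) = p := by rw [Nat.card_zpowers, hao]
    rcases Transfer.cyclic_subgroup_eq_bot_or P.2 (C.hyp.1 P) (zpowers_le.2 ha) hZP (by
      by_contra hne'
      refine hle ?_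
      have hd : Nat.card (zpowers a ⊓ Z : Subgroup G) ∣ p := hA ▸ card_dvd_of_le inf_le_left
      rcases (Nat.dvd_prime hp.out).1 hd with h1 | h1
      · exact absurd (eq_bot_of_card_eq _ h1) hne'
      · exact (eq_of_le_of_card_ge inf_le_left (by rw [hA, h1])).ge.trans inf_le_right) with h | h
    · rw [h, card_bot] at hA; exact hp.out.ne_one hA.symm
    · exact hZne h
  have hnorm : ∀ g : G, g * z * g⁻¹ ∈ (P : Subgroup G) → g ∈ normalizer (Z : Set G) := by
    intro g hg
    refine Coprime.mem_normalizer_of_forall fun a ha => ?_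
    obtain ⟨i, rfl⟩ := mem_zpowers_iff.1 ha
    rw [← conj_zpow]
    refine zpow_mem ?_ i
    refine huniq _ hg ?_ (mem_zpowers _)
    rw [show g * z * g⁻¹ = MulAut.conj g z from rfl, MulEquiv.orderOf_eq, hz]
  refine le_trans (fun g hg => hnorm g (hR ((mem_normalizer_iff.1 hg z).1 hzR))) ?_
  obtain ⟨x, hxN, hxp, hxC⟩ := exists_moving C.hyp C.nc P
  have hxZ : x ∈ normalizer (Z : Set G) := hnorm x ((mem_normalizer_iff.1 hxN z).1 (hR hzR))
  have hPZ : (P : Subgroup G) ≤ normalizer (Z : Set G) := fun a ha => hnorm a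
    (P.1.mul_mem (P.1.mul_mem ha (hR hzR)) (P.1.inv_mem ha))
  have hNtop : normalizer (Z : Set G) ≠ ⊤ :=
    C.normalizer_ne_top hZne (C.ne_top_of_isPGroup (P.2.to_le hZP))
  rcases C.sub _ hNtop with h | h
  · exfalso
    refine hxC (mem_centralizer_iff.2 fun a ha => ?_)
    have := Transfer.mem_centralizer_of_coprime h (Q := (P : Subgroup G).subgroupOf (normalizer (Z : Set G)))
      (P.2.comap_subtype) (g := ⟨x, hxZ⟩)
      (Coprime.mem_normalizer_of_forall fun y hy => (mem_normalizer_iff.1 hxN _).1 hy)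
      (by rwa [Subgroup.orderOf_mk])
    exact congrArg Subtype.val (this ⟨a, hPZ ha⟩ ha)
  · have hn := h (P.subtype hPZ)
    rw [Sylow.coe_subtype] at hn
    exact (normal_subgroupOf_iff_le_normalizer hPZ).1 hn

theorem centralizer_le (P : Sylow p G) {z : G} (hz : z ∈ (P : Subgroup G)) (hz1 : z ≠ 1) :
    centralizer ({z} : Set G) ≤ normalizer ((P : Subgroup G) : Set G) := by
  refine le_trans ?_ (C.normalizer_le P (zpowers_le.2 hz) (fun h => hz1 (zpowers_eq_bot.1 h)))
  rw [zpowers_eq_closure, ← centralizer_closure]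
  exact centralizer_le_normalizer _

theorem eq_of_mem (P Q : Sylow p G) {z : G} (hP : z ∈ (P : Subgroup G)) (hQ : z ∈ (Q : Subgroup G))
    (hz1 : z ≠ 1) : P = Q := by
  have hQN : (Q : Subgroup G) ≤ normalizer ((P : Subgroup G) : Set G) := fun a ha =>
    C.centralizer_le P hP hz1 (mem_centralizer_singleton_iff.2 (comm_of_cyclic (C.hyp.1 Q) ha hQ))
  have h1 : (Q : Subgroup G) ≤ P :=
    le_sup_left.trans (P.3 (IsPGroup.to_sup_of_normal_right' Q.2 P.2 hQN) le_sup_right).le
  exact Sylow.ext (Q.3 P.2 h1)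

/-- A proper subgroup has a normal complement or normalizes a nontrivial `p`-subgroup of it. -/
theorem proper_cases (H : Subgroup G) (hH : H ≠ ⊤) :
    Cfsg.HasNormalPComplement p H ∨
      ∃ (P : Sylow p G), H ≤ normalizer ((P : Subgroup G) : Set G) ∧ p ∣ Nat.card H := by
  rcases C.sub H hH with h | h
  · exact Or.inl h
  by_cases hd : p ∣ Nat.card H
  · right
    obtain ⟨R⟩ := (inferInstance : Nonempty (Sylow p H))
    have hne : (R : Subgroup H).map H.subtype ≠ ⊥ := fun h0 => by
      rw [map_eq_bot_iff_of_injective _ H.subtype_injective] at h0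
      exact R.ne_bot_of_dvd_card hd h0
    obtain ⟨P, hP⟩ := (R.2.map H.subtype).exists_le_sylow
    refine ⟨P, le_trans (fun a ha => Coprime.mem_normalizer_of_forall ?_) (C.normalizer_le P hP hne), hd⟩
    rintro _ ⟨b, hb, rfl⟩
    exact ⟨⟨a, ha⟩ * b * ⟨a, ha⟩⁻¹, (h R).conj_mem b hb _, rfl⟩
  · exact Or.inl (Transfer.hasNormalPComplement_of_not_dvd hd)

omit C in
/-- The `p'`-elements of a subgroup with a normal `p`-complement. -/
theorem compl_data {H : Subgroup G} (h : Cfsg.HasNormalPComplement p H) :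
    ∃ K : Subgroup G, K ≤ H ∧ ¬ p ∣ Nat.card K ∧ H ≤ normalizer (K : Set G) ∧
      (∀ g ∈ H, (orderOf g).Coprime p → g ∈ K) ∧ ∃ k, Nat.card H = Nat.card K * p ^ k := by
  refine ⟨(Cfsg.pResidual p H).map H.subtype, map_subtype_le _, ?_, ?_, ?_, ?_⟩
  · rw [card_map_of_injective H.subtype_injective]
    exact hp.out.coprime_iff_not_dvd.1 (Transfer.hasNormalPComplement_iff_coprime.1 h).symm
  · intro a ha
    refine Coprime.mem_normalizer_of_forall ?_
    rintro _ ⟨b, hb, rfl⟩
    exact ⟨⟨a, ha⟩ * b * ⟨a, ha⟩⁻¹, Transfer.pResidual_normal.conj_mem b hb _, rfl⟩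
  · intro g hg hgp
    exact ⟨⟨g, hg⟩, Transfer.mem_pResidual_of_coprime (by rwa [Subgroup.orderOf_mk]), rfl⟩
  · obtain ⟨k, hk⟩ := Transfer.exists_index_pResidual (G := H) (p := p)
    exact ⟨k, by rw [card_map_of_injective H.subtype_injective, ← hk, card_mul_index]⟩

/-- An abelian complement of `P` in its normalizer. -/
theorem exists_compl (P : Sylow p G) : ∃ X : Subgroup G,
    X ≤ normalizer ((P : Subgroup G) : Set G) ∧ ¬ p ∣ Nat.card X ∧
    (P : Subgroup G) ⊔ X = normalizer ((P : Subgroup G) : Set G) ∧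
    Nat.card (normalizer ((P : Subgroup G) : Set G)) = Nat.card P * Nat.card X ∧
    (∀ A : Subgroup G, A ≤ normalizer ((P : Subgroup G) : Set G) → ¬ p ∣ Nat.card A →
      Nat.card A ∣ Nat.card X) ∧
    ∃ x ∈ X, (orderOf x).Coprime p ∧ x ∉ centralizer ((P : Subgroup G) : Set G) := by
  set N := normalizer ((P : Subgroup G) : Set G) with hN
  set P' := (P : Subgroup G).subgroupOf N
  haveI : P'.Normal := (normal_subgroupOf_iff_le_normalizer Subgroup.le_normalizer).2 le_rfl
  have hPc : Nat.card P' = Nat.card P := Nat.card_congr (subgroupOfEquivOfLe le_normalizer).toEquiv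
  have hidx : ¬ p ∣ P'.index := fun h => P.not_dvd_index (h.trans (relIndex_dvd_index_of_le le_normalizer))
  obtain ⟨j, hj⟩ := P.2.exists_card_eq
  have hcop : (Nat.card P').Coprime P'.index := by
    rw [hPc, hj]; exact (hp.out.coprime_iff_not_dvd.2 hidx).pow_left j
  obtain ⟨L, hL⟩ := exists_right_complement'_of_coprime hcop
  set X := L.map N.subtype with hX
  have hXc : Nat.card X = P'.index := by
    rw [hX, card_map_of_injective N.subtype_injective, ← hL.symm.index_eq_card]
  have hsup : (P : Subgroup G) ⊔ X = N := by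
    refine le_antisymm (sup_le le_normalizer (map_subtype_le _)) fun g hg => ?_
    obtain ⟨⟨a, b⟩, hab⟩ := hL.2 ⟨g, hg⟩
    have : ((a : N) : G) * ((b : N) : G) = g := congrArg Subtype.val hab
    rw [← this]
    exact mul_mem_sup (mem_subgroupOf.1 a.2) (mem_map_of_mem N.subtype b.2)
  refine ⟨X, map_subtype_le _, hXc ▸ hidx, hsup, ?_, fun A hAN hA => ?_, ?_⟩
  · rw [hXc, ← hPc, card_mul_index]
  · have h1 : Nat.card A ∣ Nat.card P * Nat.card X := by
      rw [← hPc, hXc, card_mul_index]; exact card_dvd_of_le hAN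
    refine Nat.Coprime.dvd_of_dvd_mul_left ?_ h1
    rw [hj]
    exact ((hp.out.coprime_iff_not_dvd.2 hA).symm).pow_right j
  · by_contra hh
    push Not at hh
    have hle : N ≤ centralizer ((P : Subgroup G) : Set G) := hsup ▸ sup_le
      (fun a ha => mem_centralizer_iff.2 fun b hb => comm_of_cyclic (C.hyp.1 P) hb ha)
      (fun a ha => hh a ha ((hp.out.coprime_iff_not_dvd.2 fun hd =>
        (hXc ▸ hidx) (hd.trans (Subgroup.orderOf_coe (⟨a, ha⟩ : X) ▸ orderOf_dvd_natCard _))).symm))
    exact C.nc (Transfer.hasNormalPComplement_of_normalizer_le_centralizer P hle)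

end Ctx

end Cfsg.Agent.CyclicSylowAbelian
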