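/-
The simple case with nontrivial `C_X(P)`: the configuration of S4018.

Main result: `Ctx.false_of_fixed`.
-/
import Cfsg.Agent.Lib.CyclicSylowAbelian.Simple
import Cfsg.Agent.S4018
import Mathlib.GroupTheory.Perm.Cycle.Type

set_option autoImplicit false

namespace Cfsg.Agent.CyclicSylowAbelian

open Subgroup

variable {G : Type*} [Group G] {p : ℕ}

/-- A set permuted by conjugation by a `p`-element: congruent to its fixed points. -/
theorem ncard_modEq_fixed [Finite G] [hp : Fact p.Prime] {r : G} {k : ℕ} (hr : r ^ p ^ k = 1) (s : Set G)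
    (hinv : ∀ a ∈ s, r * a * r⁻¹ ∈ s) :
    s.ncard ≡ {a ∈ s | r * a = a * r}.ncard [MOD p] := by
  classical
  haveI : Fintype s := Fintype.ofFinite _
  let f : Function.End s := fun a => ⟨r * a * r⁻¹, hinv a a.2⟩
  have hpow : ∀ (n : ℕ) (a : s), ((f ^ n) a : G) = r ^ n * a * (r ^ n)⁻¹ := by
    intro n
    induction n with
    | zero => intro a; rw [pow_zero, pow_zero]; change (a : G) = 1 * a * 1⁻¹; simp
    | succ n ih =>
      intro a
      rw [pow_succ']
      change r * ((f ^ n) a : G) * r⁻¹ = _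
      rw [ih]
      group
  have hf : f ^ p ^ k = 1 := funext fun a => Subtype.ext (by rw [hpow, hr, one_mul, inv_one, mul_one]; rfl)
  have h := Equiv.Perm.card_fixedPoints_modEq hf
  rw [← Nat.card_eq_fintype_card, ← Nat.card_eq_fintype_card, Nat.card_coe_set_eq] at h
  rw [← Nat.card_coe_set_eq {a ∈ s | r * a = a * r}]
  have e : Function.fixedPoints f ≃ ({a ∈ s | r * a = a * r} : Set G) :=
    { toFun := fun a => ⟨a.1.1, ⟨a.1.2, mul_inv_eq_iff_eq_mul.1
          (congrArg Subtype.val (show f a.1 = a.1 from a.2))⟩⟩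
      invFun := fun a => ⟨⟨a.1, a.2.1⟩, show f ⟨a.1, a.2.1⟩ = ⟨a.1, a.2.1⟩ from
        Subtype.ext (mul_inv_eq_iff_eq_mul.2 a.2.2)⟩
      left_inv := fun a => rfl
      right_inv := fun a => rfl }
  rw [← Nat.card_congr e]
  exact h

/-- A coprime-order conjugation fixing all elements of order dividing `q` of an abelian `q`-group fixes it. -/
theorem fixed_of_fixed_omega {q : ℕ} [hq : Fact q.Prime] {S : Subgroup G} {r : G}
    (hab : ∀ a ∈ S, ∀ b ∈ S, a * b = b * a) (hr : (orderOf r).Coprime q) (hS : IsPGroup q S)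
    (hinv : ∀ a ∈ S, r * a * r⁻¹ ∈ S) (hfix : ∀ a ∈ S, a ^ q = 1 → r * a = a * r) :
    ∀ a ∈ S, r * a = a * r := by
  suffices H : ∀ n : ℕ, ∀ a ∈ S, a ^ q ^ n = 1 → r * a = a * r by
    intro a ha
    obtain ⟨n, hn⟩ := hS ⟨a, ha⟩
    exact H n a ha (by simpa using congrArg Subtype.val hn)
  intro n
  induction n with
  | zero => intro a _ h; rw [pow_zero, pow_one] at h; rw [h, mul_one, one_mul]
  | succ n ih =>
    intro a ha h
    rw [pow_succ', pow_mul] at h
    have h1 := ih _ (S.pow_mem ha q) h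
    set z := a⁻¹ * (r * a * r⁻¹) with hz
    have hzS : z ∈ S := S.mul_mem (S.inv_mem ha) (hinv a ha)
    have hzq : z ^ q = 1 := by
      rw [hz, (show Commute a⁻¹ (r * a * r⁻¹) from hab _ (S.inv_mem ha) _ (hinv a ha)).mul_pow, conj_pow, h1,
        mul_inv_cancel_right, inv_pow, inv_mul_cancel]
    have hzr := hfix z hzS hzq
    have hconj : ∀ j : ℕ, r ^ j * a * (r ^ j)⁻¹ = a * z ^ j := by
      intro j
      induction j with
      | zero => simp
      | succ j ihj =>
        calc r ^ (j + 1) * a * (r ^ (j + 1))⁻¹ = r * (r ^ j * a * (r ^ j)⁻¹) * r⁻¹ := by group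
          _ = (r * a * r⁻¹) * (r * z ^ j * r⁻¹) := by rw [ihj]; group
          _ = (a * z) * z ^ j := by
            rw [(show Commute r z from hzr).pow_right j |>.eq, mul_inv_cancel_right, hz]; group
          _ = a * z ^ (j + 1) := by rw [pow_succ', mul_assoc]
    have h2 := hconj (orderOf r)
    rw [pow_orderOf_eq_one, one_mul, inv_one, mul_one, left_eq_mul] at h2
    have hz1 : z = 1 := orderOf_eq_one_iff.1 (Nat.eq_one_of_dvd_coprimes hr (orderOf_dvd_of_pow_eq_one h2)
      (orderOf_dvd_of_pow_eq_one hzq))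
    rw [hz, inv_mul_eq_one, eq_mul_inv_iff_mul_eq] at hz1
    exact hz1.symm

namespace Ctx

variable [Finite G] [hp : Fact p.Prime] (C : Ctx p G)
include C

theorem false_of_fixed (P : Sylow p G) {X : Subgroup G} (hXN : X ≤ normalizer ((P : Subgroup G) : Set G))
    (hXp : ¬ p ∣ Nat.card X) (hsup : (P : Subgroup G) ⊔ X = normalizer ((P : Subgroup G) : Set G))
    (hNc : Nat.card (normalizer ((P : Subgroup G) : Set G)) = Nat.card P * Nat.card X)
    (hmaxN : ∀ A : Subgroup G, A ≤ normalizer ((P : Subgroup G) : Set G) → ¬ p ∣ Nat.card A →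
      Nat.card A ∣ Nat.card X)
    {x₀ : G} (hx₀X : x₀ ∈ X) (hx₀C : x₀ ∉ centralizer ((P : Subgroup G) : Set G))
    {y₀ : G} (hy₀X : y₀ ∈ X) (hy₀C : y₀ ∈ centralizer ((P : Subgroup G) : Set G)) (hy₀1 : y₀ ≠ 1) :
    False := by
  classical
  haveI := C.simple
  have hXco : ∀ a ∈ X, (orderOf a).Coprime p := fun a ha => (hp.out.coprime_iff_not_dvd.2 fun hd =>
    hXp (hd.trans (Subgroup.orderOf_coe (⟨a, ha⟩ : X) ▸ orderOf_dvd_natCard _))).symm
  have hXcomm : ∀ a ∈ X, ∀ b ∈ X, a * b = b * a := fun a ha b hb => C.hyp.commute hXp ha hb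
  have hPne : (P : Subgroup G) ≠ ⊥ := P.ne_bot_of_dvd_card C.dvd_card
  have hCy : ∀ y ∈ X, y ∈ centralizer ((P : Subgroup G) : Set G) → y ≠ 1 →
      centralizer ({y} : Set G) ≤ normalizer ((P : Subgroup G) : Set G) := by
    intro y hyX hyC hy1
    have hPy : (P : Subgroup G) ≤ centralizer ({y} : Set G) := fun a ha =>
      mem_centralizer_singleton_iff.2 (mem_centralizer_iff.1 hyC a ha)
    have hxy : x₀ ∈ centralizer ({y} : Set G) := mem_centralizer_singleton_iff.2 (hXcomm _ hx₀X _ hyX)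
    rcases C.sub _ (C.centralizer_ne_top hy1) with h | h
    · exfalso
      refine hx₀C (mem_centralizer_iff.2 fun a ha => ?_)
      have := Transfer.mem_centralizer_of_coprime h (Q := (P : Subgroup G).subgroupOf (centralizer ({y} : Set G)))
        (P.2.comap_subtype) (g := ⟨x₀, hxy⟩)
        (Coprime.mem_normalizer_of_forall fun b hb => (mem_normalizer_iff.1 (hXN hx₀X) _).1 hb)
        (by rw [Subgroup.orderOf_mk]; exact hXco _ hx₀X)
      exact congrArg Subtype.val (this ⟨a, hPy ha⟩ ha)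
    · have hn := h (P.subtype hPy)
      rw [Sylow.coe_subtype] at hn
      exact (normal_subgroupOf_iff_le_normalizer hPy).1 hn
  have hXmax : ∀ A : Subgroup G, ¬ p ∣ Nat.card A → X ≤ A → A ≤ X := by
    intro A hA hXA
    refine (eq_of_le_of_card_ge hXA (Nat.le_of_dvd Nat.card_pos (hmaxN A ?_ hA))).ge
    exact fun a ha => hCy y₀ hy₀X hy₀C hy₀1 (mem_centralizer_singleton_iff.2 (C.hyp.commute hA ha (hXA hy₀X)))
  -- a prime `q` and a moving `q`-element
  obtain ⟨q, hq, x₁, hx₁z, ⟨i, hi⟩, hx₁C⟩ : ∃ q : ℕ, q.Prime ∧ ∃ x₁ ∈ zpowers x₀,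
      (∃ k, orderOf x₁ = q ^ k) ∧ x₁ ∉ centralizer ((P : Subgroup G) : Set G) := by
    by_contra hh
    push Not at hh
    exact hx₀C (Transfer.mem_of_forall_primePow fun q hq y hy hk => hh q hq y hy hk)
  haveI := Fact.mk hq
  have hx₁X : x₁ ∈ X := (zpowers_le.2 hx₀X) hx₁z
  have hx₁1 : x₁ ≠ 1 := fun h => hx₁C (h ▸ one_mem _)
  have hi0 : i ≠ 0 := fun h => hx₁1 (orderOf_eq_one_iff.1 (by rw [hi, h, pow_zero]))
  have hqp : q ≠ p := by
    rintro rfl
    exact hp.out.ne_one (Nat.eq_one_of_dvd_coprimes (hXco _ hx₁X) (hi ▸ dvd_pow_self q hi0) (dvd_refl q))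
  have hx₁q : IsPGroup q (zpowers x₁) := IsPGroup.of_card (n := i) (by rw [Nat.card_zpowers, hi])
  obtain ⟨Q₀, hQ₀⟩ := (hx₁q.comap_subtype (K := X)).exists_le_sylow
  set Xq := (Q₀ : Subgroup X).map X.subtype with hXq
  have hx₁Xq : x₁ ∈ Xq := ⟨⟨x₁, hx₁X⟩, hQ₀ (mem_zpowers x₁), rfl⟩
  have hXqX : Xq ≤ X := map_subtype_le _
  obtain ⟨S, hS⟩ := (Q₀.2.map X.subtype).exists_le_sylow
  have hSp : ¬ p ∣ Nat.card (S : Subgroup G) := by
    obtain ⟨j, hj⟩ := S.2.exists_card_eq
    rw [hj]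
    exact fun h => hqp ((Nat.prime_dvd_prime_iff_eq hp.out hq).1 (hp.out.dvd_of_dvd_pow h)).symm
  have hSC : (S : Subgroup G) ≤ centralizer (Xq : Set G) := fun a ha => mem_centralizer_iff.2 fun b hb =>
    C.hyp.commute hSp (hS hb) ha
  have hXC : X ≤ centralizer (Xq : Set G) := fun a ha => mem_centralizer_iff.2 fun b hb =>
    hXcomm _ (hXqX hb) _ ha
  have hcentne : ∀ A : Subgroup G, x₁ ∈ A → centralizer (A : Set G) ≠ ⊤ := fun A hA h =>
    C.centralizer_ne_top hx₁1 (eq_top_iff.2 (h ▸ Subgroup.centralizer_le (Set.singleton_subset_iff.2 hA)))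
  have hSX : (S : Subgroup G) ≤ X := by
    rcases C.proper_cases _ (hcentne Xq hx₁Xq) with h | ⟨P', hP', -⟩
    · obtain ⟨K, -, hKp, -, hKmem, -⟩ := Ctx.compl_data h
      have hXK : X ≤ K := fun a ha => hKmem a (hXC ha) (hXco a ha)
      refine le_trans (fun a ha => hKmem a (hSC ha) ?_) (hXmax K hKp hXK)
      exact (hp.out.coprime_iff_not_dvd.2 fun hd =>
        hSp (hd.trans (Subgroup.orderOf_coe (⟨a, ha⟩ : (S : Subgroup G)) ▸ orderOf_dvd_natCard _))).symm
    · obtain ⟨g, rfl⟩ := MulAction.exists_smul_eq G P P'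
      refine le_of_eq_of_le (eq_of_le_of_card_ge hS ?_).symm hXqX
      have hd : Nat.card (S : Subgroup G) ∣ Nat.card X := by
        have h1 := card_dvd_of_le (hSC.trans hP')
        rw [Sylow.coe_subgroup_smul] at h1
        change Nat.card (S : Subgroup G) ∣ Nat.card (normalizer
          (((P : Subgroup G).map (MulAut.conj g).toMonoidHom : Subgroup G) : Set G)) at h1
        rw [← map_equiv_normalizer_eq, card_map_of_injective (MulAut.conj g).injective, hNc] at h1
        obtain ⟨j, hj⟩ := P.2.exists_card_eq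
        refine Nat.Coprime.dvd_of_dvd_mul_left ?_ h1
        rw [hj]
        exact (hp.out.coprime_iff_not_dvd.2 hSp).symm.pow_right j
      obtain ⟨j, hj⟩ := S.2.exists_card_eq
      rw [hj] at hd ⊢
      rw [card_map_of_injective X.subtype_injective]
      exact Nat.le_of_dvd Nat.card_pos (Q₀.pow_dvd_card_of_pow_dvd_card hd)
  have hx₁S : x₁ ∈ (S : Subgroup G) := hS hx₁Xq
  -- a `p`-element normalizing but not centralizing `S`
  obtain ⟨r, hrN, ⟨kr, hkr⟩, hrC⟩ : ∃ r ∈ normalizer ((S : Subgroup G) : Set G),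
      (∃ k, orderOf r = p ^ k) ∧ r ∉ centralizer ((S : Subgroup G) : Set G) := by
    by_contra hh
    push Not at hh
    haveI : IsMulCommutative (S : Subgroup G) := C.hyp.2 _ hSp
    have hcompl := Transfer.hasNormalPComplement_of_normalizer_le_centralizer S
      (Transfer.normalizer_le_centralizer_of_primePow S fun l hl hlq _ y hy ⟨k, hk⟩ => by
        by_cases hlp : l = p
        · exact hh y hy ⟨k, by rw [hk, hlp]⟩
        · refine mem_centralizer_iff.2 fun a ha => (C.hyp.commute_of_normalizes hSp ?_ hy ha).symm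
          rw [hk]
          exact ((Nat.coprime_primes hl hp.out).2 hlp).pow_left k)
    obtain ⟨T, N, hNn, hNc'⟩ := hcompl
    have hqd : q ∣ Nat.card (T : Subgroup G) := by
      refine T.dvd_card_of_dvd_card ((hi ▸ dvd_pow_self q hi0).trans (orderOf_dvd_natCard x₁))
    rcases C.simple.eq_bot_or_eq_top_of_normal N hNn with h | h
    · have h1 := hNc'.card_mul_card
      rw [h, card_bot, one_mul] at h1
      obtain ⟨j, hj⟩ := T.2.exists_card_eq
      exact hqp ((Nat.prime_dvd_prime_iff_eq hp.out hq).1 (hp.out.dvd_of_dvd_pow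
        (hj ▸ h1 ▸ C.dvd_card))).symm
    · have h1 := hNc'.card_mul_card
      rw [h, card_top] at h1
      have h2 : Nat.card (T : Subgroup G) = 1 := (Nat.mul_eq_left Nat.card_pos.ne').1 h1
      rw [h2] at hqd
      exact hq.ne_one (Nat.dvd_one.1 hqd)
  have hr1 : r ≠ 1 := fun h => hrC (h ▸ one_mem _)
  have hrpow : r ^ p ^ kr = 1 := by rw [← hkr, pow_orderOf_eq_one]
  have hrq : (orderOf r).Coprime q := by
    rw [hkr]; exact ((Nat.coprime_primes hp.out hq).2 (Ne.symm hqp)).pow_left kr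
  have hrX : ∀ a ∈ X, r * a * r⁻¹ ∈ X := by
    have hrCS : ∀ a ∈ centralizer ((S : Subgroup G) : Set G), r * a * r⁻¹ ∈ centralizer ((S : Subgroup G) : Set G) := by
      intro a ha
      rw [mem_centralizer_iff]
      intro b hb
      have h1 : r⁻¹ * b * r⁻¹⁻¹ ∈ (S : Subgroup G) := (mem_normalizer_iff.1 (inv_mem hrN) b).1 hb
      rw [inv_inv] at h1
      have h2 := mem_centralizer_iff.1 ha _ h1
      calc b * (r * a * r⁻¹) = r * ((r⁻¹ * b * r) * a) * r⁻¹ := by group
        _ = r * (a * (r⁻¹ * b * r)) * r⁻¹ := by rw [h2]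
        _ = r * a * r⁻¹ * b := by group
    have hXS : X ≤ centralizer ((S : Subgroup G) : Set G) := fun a ha => mem_centralizer_iff.2 fun b hb =>
      hXcomm _ (hSX hb) _ ha
    rcases C.proper_cases _ (hcentne _ hx₁S) with h | ⟨P', hP', hd⟩
    · obtain ⟨K, hKle, hKp, -, hKmem, -⟩ := Ctx.compl_data h
      have hXK : X ≤ K := fun a ha => hKmem a (hXS ha) (hXco a ha)
      intro a ha
      refine hXmax K hKp hXK (hKmem _ (hrCS a (hXS ha)) ?_)
      rw [show r * a * r⁻¹ = MulAut.conj r a from rfl, MulEquiv.orderOf_eq]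
      exact hXco a ha
    · exfalso
      obtain ⟨g, rfl⟩ := MulAction.exists_smul_eq G P P'
      obtain ⟨z, hz⟩ := exists_prime_orderOf_dvd_card' (G := centralizer ((S : Subgroup G) : Set G)) p hd
      have hz1 : (z : G) ≠ 1 := fun h => by
        rw [← Subgroup.orderOf_coe, h, orderOf_one] at hz; exact hp.out.ne_one hz.symm
      have hzP : (z : G) ∈ ((g • P : Sylow p G) : Subgroup G) := by
        have hzp : IsPGroup p (zpowers (z : G)) := IsPGroup.of_card (n := 1) (by
          rw [Nat.card_zpowers, Subgroup.orderOf_coe, hz, pow_one])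
        exact ((g • P).3 (IsPGroup.to_sup_of_normal_right' hzp (g • P).2 (zpowers_le.2 (hP' z.2)))
          le_sup_right).le (mem_sup_left (mem_zpowers _))
      have hSN' : (S : Subgroup G) ≤ normalizer (((g • P : Sylow p G) : Subgroup G) : Set G) :=
        fun a ha => hP' (hXS (hSX ha))
      have hSC' : (S : Subgroup G) ≤ centralizer (((g • P : Sylow p G) : Subgroup G) : Set G) := fun a ha =>
        fpf (g • P).2 (C.hyp.1 _) (hSN' ha) (hXco a (hSX ha)) hzP hz1
          (mem_centralizer_iff.1 z.2 a ha)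
      have hS' : ((g⁻¹ • S : Sylow q G) : Subgroup G) ≤ centralizer ((P : Subgroup G) : Set G) := by
        intro a ha
        rw [Sylow.coe_subgroup_smul, Subgroup.mem_pointwise_smul_iff_inv_smul_mem, map_inv, inv_inv] at ha
        refine mem_centralizer_iff.2 fun b hb => ?_
        have h1 : MulAut.conj g b ∈ ((g • P : Sylow p G) : Subgroup G) := by
          rw [Sylow.coe_subgroup_smul]; exact smul_mem_pointwise_smul _ _ _ hb
        exact (MulAut.conj g).injective (by
          rw [map_mul, map_mul]; exact mem_centralizer_iff.1 (hSC' ha) _ h1)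
      have hSle : (S : Subgroup G) ≤ normalizer ((P : Subgroup G) : Set G) := hSX.trans hXN
      obtain ⟨n, hn⟩ := MulAction.exists_smul_eq (normalizer ((P : Subgroup G) : Set G))
        ((g⁻¹ • S).subtype (hS'.trans (centralizer_le_normalizer _))) (S.subtype hSle)
      rw [Sylow.smul_subtype] at hn
      have hn' := Sylow.subtype_injective hn
      have hx₁' : x₁ ∈ ((n : G) • (g⁻¹ • S) : Sylow q G).toSubgroup := by
        rw [show ((n : G) • (g⁻¹ • S) : Sylow q G) = n • (g⁻¹ • S) from rfl, hn']; exact hx₁S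
      rw [Sylow.coe_subgroup_smul, Subgroup.mem_pointwise_smul_iff_inv_smul_mem] at hx₁'
      refine hx₁C (mem_centralizer_iff.2 fun b hb => ?_)
      have hb' : (n : G)⁻¹ * b * (n : G)⁻¹⁻¹ ∈ (P : Subgroup G) := (mem_normalizer_iff.1 (inv_mem n.2) b).1 hb
      rw [inv_inv] at hb'
      have h1 := mem_centralizer_iff.1 (hS' hx₁') _ hb'
      simp only [MulAut.smul_def, MulAut.inv_apply, MulAut.conj_symm_apply] at h1
      calc b * x₁ = (n : G) * (((n : G)⁻¹ * b * n) * ((n : G)⁻¹ * x₁ * n)) * (n : G)⁻¹ := by group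
        _ = (n : G) * (((n : G)⁻¹ * x₁ * n) * ((n : G)⁻¹ * b * n)) * (n : G)⁻¹ := by rw [h1]
        _ = x₁ * b := by group
  have hrX' : ∀ a ∈ X, r⁻¹ * a * r ∈ X := by
    intro a ha
    have hinj : Function.Bijective (fun b : X => (⟨r * b * r⁻¹, hrX b b.2⟩ : X)) :=
      Finite.injective_iff_bijective.1 fun b c h => Subtype.ext
        (mul_left_cancel (mul_right_cancel (congrArg Subtype.val h)))
    obtain ⟨b, hb⟩ := hinj.2 ⟨a, ha⟩
    have : r * b * r⁻¹ = a := congrArg Subtype.val hb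
    rw [← this]
    simpa [mul_assoc] using b.2
  set Cp := centralizer ((P : Subgroup G) : Set G) with hCp
  have hdisj : ∀ a ∈ X, a ∈ Cp → r⁻¹ * a * r ∈ Cp → a = 1 := by
    intro a haX ha ha'
    by_contra ha1
    have hrP : ((r • P : Sylow p G) : Subgroup G) ≤ normalizer ((P : Subgroup G) : Set G) := by
      refine le_trans (fun b hb => ?_) (hCy a haX ha ha1)
      rw [Sylow.coe_subgroup_smul, Subgroup.mem_pointwise_smul_iff_inv_smul_mem] at hb
      have h1 := mem_centralizer_iff.1 ha' _ hb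
      simp only [MulAut.smul_def, MulAut.inv_apply, MulAut.conj_symm_apply] at h1
      rw [mem_centralizer_singleton_iff]
      calc b * a = r * ((r⁻¹ * b * r) * (r⁻¹ * a * r)) * r⁻¹ := by group
        _ = r * ((r⁻¹ * a * r) * (r⁻¹ * b * r)) * r⁻¹ := by rw [h1]
        _ = a * b := by group
    have heq : r • P = P := Sylow.ext ((r • P).3 P.2
      (le_sup_left.trans (P.3 (IsPGroup.to_sup_of_normal_right' (r • P).2 P.2 hrP) le_sup_right).le)).symm
    have hrn := Sylow.smul_eq_iff_mem_normalizer.1 heq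
    have hrP' : r ∈ (P : Subgroup G) := by
      have hrp : IsPGroup p (zpowers r) := IsPGroup.of_card (n := kr) (by rw [Nat.card_zpowers, hkr])
      exact (P.3 (IsPGroup.to_sup_of_normal_right' hrp P.2 (zpowers_le.2 hrn)) le_sup_right).le
        (mem_sup_left (mem_zpowers _))
    have hcom : x₀ * r = r * x₀ := by
      set c := r * x₀ * r⁻¹ * x₀⁻¹ with hc
      have hcX : c ∈ X := X.mul_mem (hrX _ hx₀X) (X.inv_mem hx₀X)
      have hcP : c ∈ (P : Subgroup G) := by
        rw [hc, show r * x₀ * r⁻¹ * x₀⁻¹ = r * (x₀ * r⁻¹ * x₀⁻¹) by group]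
        exact P.1.mul_mem hrP' ((mem_normalizer_iff.1 (hXN hx₀X) _).1 (P.1.inv_mem hrP'))
      have hc1 : c = 1 := orderOf_eq_one_iff.1 (by
        obtain ⟨j, hj⟩ := P.2 ⟨c, hcP⟩
        exact Nat.eq_one_of_dvd_coprimes ((hXco c hcX).pow_right j) dvd_rfl
          (orderOf_dvd_of_pow_eq_one (by simpa using congrArg Subtype.val hj)))
      rw [hc, mul_inv_eq_one, mul_inv_eq_iff_eq_mul] at hc1
      exact hc1.symm
    exact hx₀C (fpf P.2 (C.hyp.1 P) (hXN hx₀X) (hXco _ hx₀X) hrP' hr1 hcom)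
  -- action on a subgroup of order `p` of `P`
  obtain ⟨z₀, hz₀⟩ := exists_prime_orderOf_dvd_card' (G := (P : Subgroup G)) p (P.dvd_card_of_dvd_card C.dvd_card)
  set Z := zpowers (z₀ : G) with hZ
  have hZc : Nat.card Z = p := by rw [Nat.card_zpowers, Subgroup.orderOf_coe, hz₀]
  have hz₀1 : (z₀ : G) ≠ 1 := fun h => by
    rw [← Subgroup.orderOf_coe, h, orderOf_one] at hz₀; exact hp.out.ne_one hz₀.symm
  have hXZ : X ≤ normalizer (Z : Set G) := by
    intro a ha
    have hmem : a * (z₀ : G) * a⁻¹ ∈ (P : Subgroup G) := (mem_normalizer_iff.1 (hXN ha) _).1 z₀.2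
    have hsub : zpowers (a * (z₀ : G) * a⁻¹) ≤ Z := by
      have hA : Nat.card (zpowers (a * (z₀ : G) * a⁻¹)) = p := by
        rw [Nat.card_zpowers, show a * (z₀ : G) * a⁻¹ = MulAut.conj a z₀ from rfl, MulEquiv.orderOf_eq,
          Subgroup.orderOf_coe, hz₀]
      have hd : Nat.card (zpowers (a * (z₀ : G) * a⁻¹) ⊓ Z : Subgroup G) ∣ p := (card_dvd_of_le inf_le_left).trans hA.dvd
      rcases (Nat.dvd_prime hp.out).1 hd with h1 | h1
      · exfalso
        rcases Transfer.cyclic_subgroup_eq_bot_or P.2 (C.hyp.1 P) (zpowers_le.2 hmem) (zpowers_le.2 z₀.2)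
          (eq_bot_of_card_eq _ h1) with h | h
        · rw [h, card_bot] at hA; exact hp.out.ne_one hA.symm
        · exact hz₀1 (zpowers_eq_bot.1 h)
      · exact (eq_of_le_of_card_ge inf_le_left (by rw [hA, h1])).ge.trans inf_le_right
    refine Coprime.mem_normalizer_of_forall fun b hb => ?_
    obtain ⟨j, rfl⟩ := mem_zpowers_iff.1 hb
    rw [← conj_zpow]
    exact zpow_mem (hsub (mem_zpowers _)) j
  haveI : IsCyclic Z := isCyclic_of_prime_card hZc
  let e := IsCyclic.mulAutMulEquiv Z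
  haveI hcycA : IsCyclic (MulAut Z) := by
    haveI : IsCyclic (ZMod (Nat.card Z))ˣ := by rw [hZc]; infer_instance
    exact isCyclic_of_surjective e.symm.toMonoidHom e.symm.surjective
  have hAut : Nat.card (MulAut Z) = p - 1 := by
    rw [Nat.card_congr e.toEquiv, hZc, Nat.card_eq_fintype_card, ZMod.card_units]
  let φ : X →* MulAut Z := Z.normalizerMonoidHom.comp (Subgroup.inclusion hXZ)
  have hφ : ∀ a : X, φ a = 1 ↔ (a : G) ∈ Cp := by
    intro a
    rw [← MonoidHom.mem_ker, show φ.ker = Z.normalizerMonoidHom.ker.comap (Subgroup.inclusion hXZ) from rfl,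
      normalizerMonoidHom_ker, mem_comap, mem_subgroupOf]
    change (a : G) ∈ centralizer (Z : Set G) ↔ _
    constructor
    · intro h
      exact fpf P.2 (C.hyp.1 P) (hXN a.2) (hXco a a.2) z₀.2 hz₀1
        (mem_centralizer_iff.1 h z₀ (mem_zpowers _)).symm
    · intro h
      exact Subgroup.centralizer_le (zpowers_le.2 z₀.2) h
  let Y := φ.ker
  have hY : ∀ a : X, a ∈ Y ↔ (a : G) ∈ Cp := hφ
  let ψ : X →* MulAut Z :=
    { toFun := fun a => φ ⟨r⁻¹ * a * r, hrX' a a.2⟩
      map_one' := by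
        rw [← map_one φ]; congr 1; exact Subtype.ext (by simp)
      map_mul' := fun a b => by
        rw [← map_mul]; congr 1; exact Subtype.ext (by simp [mul_assoc]) }
  have hψ : Function.Injective (ψ.comp Y.subtype) := by
    rw [injective_iff_map_eq_one]
    intro a ha
    refine Subtype.ext (Subtype.ext (hdisj _ a.1.2 ((hY _).1 a.2) ((hφ ⟨r⁻¹ * (a : X) * r, hrX' _ a.1.2⟩).1 ha)))
  have hYle : Nat.card Y ≤ Nat.card φ.range := by
    rw [Nat.card_congr (Equiv.ofInjective _ hψ)]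
    refine Nat.card_le_card_of_injective (fun b => (⟨b.1, ?_⟩ : φ.range)) fun b c hbc => Subtype.ext (congrArg (fun z : φ.range => z.1) hbc)
    obtain ⟨_, a, rfl⟩ := b
    exact ⟨_, rfl⟩
  have hcardX : Nat.card Y * Nat.card φ.range = Nat.card X := by
    rw [← index_ker, card_mul_index]
  have hrange : Nat.card φ.range ∣ p - 1 := hAut ▸ card_subgroup_dvd_card _
  -- `q ∣ p - 1`
  have hqp1 : q ∣ p - 1 := by
    have h1 : φ ⟨x₁, hx₁X⟩ ≠ 1 := fun h => hx₁C ((hφ _).1 h)
    have h2 : orderOf (φ ⟨x₁, hx₁X⟩) ∣ q ^ i := hi ▸ (orderOf_map_dvd φ _).trans (by rw [Subgroup.orderOf_mk])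
    obtain ⟨j, -, hj⟩ := (Nat.dvd_prime_pow hq).1 h2
    have hj0 : j ≠ 0 := fun h => h1 (orderOf_eq_one_iff.1 (by rw [hj, h, pow_zero]))
    exact hAut ▸ (hj ▸ dvd_pow_self q hj0).trans (orderOf_dvd_natCard _)
  have hqlt : q < p := by
    have := Nat.le_of_dvd (by have := hp.out.two_le; omega) hqp1
    have := hp.out.two_le
    omega
  -- elements of order dividing `q`
  set E : Subgroup G := {
    carrier := {a | a ∈ X ∧ a ^ q = 1}
    one_mem' := ⟨X.one_mem, one_pow q⟩
    mul_mem' := fun {a b} ha hb => ⟨X.mul_mem ha.1 hb.1, by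
      rw [(show Commute a b from hXcomm _ ha.1 _ hb.1).mul_pow, ha.2, hb.2, one_mul]⟩
    inv_mem' := fun {a} ha => ⟨X.inv_mem ha.1, by rw [inv_pow, ha.2, inv_one]⟩ } with hE
  have hcyc_bound : ∀ W : Subgroup (MulAut Z), (∀ w ∈ W, w ^ q = 1) → Nat.card W ∣ q := fun W hW => by
    rw [← IsCyclic.exponent_eq_card]
    exact Monoid.exponent_dvd_of_forall_pow_eq_one fun w => Subtype.ext (hW w w.2)
  let E' := E.subgroupOf X
  have hE'c : Nat.card E' = Nat.card E := Nat.card_congr (subgroupOfEquivOfLe (show E ≤ X from fun a ha => ha.1)).toEquiv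
  have hEdvd : Nat.card E ∣ q * q := by
    rw [← hE'c, ← card_mul_index (φ.comp E'.subtype).ker, index_ker]
    refine Nat.mul_dvd_mul ?_ (hcyc_bound _ ?_)
    · have hinj : Function.Injective ((ψ.comp E'.subtype).comp (φ.comp E'.subtype).ker.subtype) := by
        rw [injective_iff_map_eq_one]
        intro a ha
        refine Subtype.ext (Subtype.ext (Subtype.ext (hdisj _ a.1.1.2 ((hφ _).1 a.2)
          ((hφ ⟨r⁻¹ * ((a : E') : X) * r, hrX' _ a.1.1.2⟩).1 ha))))
      rw [Nat.card_congr (MonoidHom.ofInjective hinj).toEquiv]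
      refine hcyc_bound _ ?_
      rintro _ ⟨a, rfl⟩
      rw [← map_pow, show a ^ q = 1 from Subtype.ext (Subtype.ext (Subtype.ext a.1.2.2)), map_one]
    · rintro _ ⟨a, rfl⟩
      rw [← map_pow, show a ^ q = 1 from Subtype.ext (Subtype.ext a.2.2), map_one]
  have hEinv : ∀ a ∈ E, r * a * r⁻¹ ∈ E := fun a ha => ⟨hrX a ha.1, by rw [conj_pow, ha.2, mul_one, mul_inv_cancel]⟩
  set F : Subgroup G := E ⊓ centralizer ({r} : Set G) with hF
  have hFne : Nat.card F < Nat.card E := by
    refine lt_of_le_of_ne (Nat.le_of_dvd Nat.card_pos (card_dvd_of_le inf_le_left)) fun h => ?_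
    have hEC : E ≤ centralizer ({r} : Set G) := (eq_of_le_of_card_ge inf_le_left h.ge).ge.trans inf_le_right
    refine hrC (mem_centralizer_iff.2 fun b hb => (fixed_of_fixed_omega (q := q) (S := (S : Subgroup G))
      (fun a ha c hc => hXcomm _ (hSX ha) _ (hSX hc)) hrq S.2
      (fun a ha => (mem_normalizer_iff.1 hrN a).1 ha) (fun a ha haq => ?_) b hb).symm)
    exact (mem_centralizer_singleton_iff.1 (hEC (show a ∈ E from ⟨hSX ha, haq⟩))).symm
  have hmodF : Nat.card E ≡ Nat.card F [MOD p] := by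
    have h := ncard_modEq_fixed hrpow (E : Set G) hEinv
    have e : {a ∈ (E : Set G) | r * a = a * r} = (F : Set G) := by
      ext a
      simp only [Set.mem_setOf_eq, hF, coe_inf, Set.mem_inter_iff, SetLike.mem_coe, mem_centralizer_singleton_iff]
      exact ⟨fun h => ⟨h.1, h.2.symm⟩, fun h => ⟨h.1, h.2.symm⟩⟩
    rw [e, ← Nat.card_coe_set_eq, ← Nat.card_coe_set_eq] at h
    exact h
  obtain ⟨a, ha, hEa⟩ := (Nat.dvd_prime_pow hq).1 (show Nat.card E ∣ q ^ 2 by rwa [pow_two])
  obtain ⟨b, hb, hFb⟩ := (Nat.dvd_prime_pow hq).1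
    (show Nat.card F ∣ q ^ 2 from (card_dvd_of_le inf_le_left).trans (by rwa [pow_two]))
  rw [hEa, hFb] at hFne hmodF
  have hba : b < a := (Nat.pow_lt_pow_iff_right hq.one_lt).1 hFne
  have hdvd : (p : ℕ) ∣ q ^ a - q ^ b := (Nat.modEq_iff_dvd' hFne.le).1 hmodF.symm
  have hnq : ¬ p ∣ q := fun h => hqp ((Nat.prime_dvd_prime_iff_eq hp.out hq).1 h).symm
  have hnq1 : ¬ p ∣ q - 1 := fun h => by
    have := Nat.le_of_dvd (by have := hq.two_le; omega) h
    omega
  obtain ⟨h2, h0⟩ : a = 2 ∧ b = 0 := by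
    interval_cases a <;> interval_cases b <;> first | omega | exfalso
    · rw [pow_zero, pow_one] at hdvd; exact hnq1 hdvd
    · rw [pow_one, pow_two, show q * q - q = q * (q - 1) by rw [Nat.mul_sub_one]] at hdvd
      exact (hp.out.dvd_mul.1 hdvd).elim hnq hnq1
  subst h2; subst h0
  have hp3 : p = q + 1 := by
    rw [pow_zero, show q ^ 2 - 1 = (q + 1) * (q - 1) by simpa using Nat.sq_sub_sq q 1] at hdvd
    have := Nat.le_of_dvd (by omega) ((hp.out.dvd_mul.1 hdvd).resolve_right hnq1)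
    omega
  obtain ⟨hq2, hp3'⟩ : q = 2 ∧ p = 3 := by
    rcases hp.out.eq_two_or_odd with h | h
    · exact absurd h C.odd_p
    rcases hq.eq_two_or_odd with h' | h'
    · exact ⟨h', by omega⟩
    · omega
  subst hq2; subst hp3'
  have hrange2 : Nat.card φ.range = 2 := by
    rcases (Nat.dvd_prime Nat.prime_two).1 hrange with h | h
    · exfalso
      exact hx₁C ((hφ ⟨x₁, hx₁X⟩).1 (mem_bot.1 (eq_bot_of_card_eq _ h ▸ ⟨_, rfl⟩ : φ ⟨x₁, hx₁X⟩ ∈ (⊥ : Subgroup (MulAut Z)))))
    · exact h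
  have hY2 : Nat.card Y = 2 := by
    have hne : (⟨y₀, hy₀X⟩ : X) ∈ Y := (hY _).2 hy₀C
    haveI : Nontrivial Y := ⟨⟨⟨_, hne⟩, 1, fun h => hy₀1 (congrArg (fun u : Y => ((u : X) : G)) h)⟩⟩
    have := Finite.one_lt_card (α := Y)
    omega
  have hX4 : Nat.card X = 4 := by rw [← hcardX, hY2, hrange2]
  have hEX : E = X := eq_of_le_of_card_ge (fun a ha => ha.1) (by rw [hEa, hX4]; norm_num)
  have hX2 : ∀ a ∈ X, a ^ 2 = 1 := fun a ha => (hEX.ge ha).2
  have hfix : ∀ a ∈ X, r * a = a * r → a = 1 := fun a ha h => by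
    have hF1 : F = ⊥ := eq_bot_of_card_eq _ (by rw [hFb, pow_zero])
    exact mem_bot.1 (hF1 ▸ ⟨hEX.ge ha, mem_centralizer_singleton_iff.2 h.symm⟩)
  have hconjX : ∀ a ∈ X, a ≠ 1 → ∃ g : G, a = g * y₀ * g⁻¹ := by
    intro a ha ha1
    have hy1 : r * y₀ * r⁻¹ ≠ y₀ := fun h => hy₀1 (hfix _ hy₀X (mul_inv_eq_iff_eq_mul.1 h))
    have hy2X : r * (r * y₀ * r⁻¹) * r⁻¹ ∈ X := hrX _ (hrX _ hy₀X)
    have hy21 : r * (r * y₀ * r⁻¹) * r⁻¹ ≠ r * y₀ * r⁻¹ := fun h =>
      hy1 (mul_left_cancel (mul_right_cancel h))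
    have hy20 : r * (r * y₀ * r⁻¹) * r⁻¹ ≠ y₀ := by
      intro h
      have hc2 : Commute (r ^ 2) y₀ := by
        change r ^ 2 * y₀ = y₀ * r ^ 2
        rw [← mul_inv_eq_iff_eq_mul, pow_two]
        simpa [mul_assoc] using h
      have hc1 : Commute r y₀ := by
        obtain ⟨j, hj⟩ : Odd (orderOf r) := by rw [hkr]; exact Odd.pow (by decide)
        have : r = (r ^ 2) ^ (j + 1) := by
          rw [← pow_mul, show 2 * (j + 1) = orderOf r + 1 by omega, pow_add, pow_orderOf_eq_one, one_mul, pow_one]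
        rw [this]
        exact hc2.pow_left _
      exact hy1 (mul_inv_eq_iff_eq_mul.2 hc1)
    have hnot1 : ∀ g : G, g * y₀ * g⁻¹ ≠ 1 := fun g h => hy₀1 (conj_eq_one_iff.1 h)
    by_contra hh
    push Not at hh
    haveI := Fintype.ofFinite (X : Set G)
    have hsub : ({1, y₀, r * y₀ * r⁻¹, r * (r * y₀ * r⁻¹) * r⁻¹, a} : Finset G) ⊆ (X : Set G).toFinset := by
      intro b hb
      simp only [Finset.mem_insert, Finset.mem_singleton] at hb
      rw [Set.mem_toFinset]
      rcases hb with rfl | rfl | rfl | rfl | rfl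
      exacts [X.one_mem, hy₀X, hrX _ hy₀X, hy2X, ha]
    have hle := Finset.card_le_card hsub
    have h2eq : r * (r * y₀ * r⁻¹) * r⁻¹ = (r * r) * y₀ * (r * r)⁻¹ := by group
    have n1 : (1 : G) ≠ r * y₀ * r⁻¹ := (hnot1 r).symm
    have n2 : (1 : G) ≠ r * (r * y₀ * r⁻¹) * r⁻¹ := by rw [h2eq]; exact (hnot1 _).symm
    have n3 : y₀ ≠ a := fun h => hh 1 (by simp [h])
    have n4 : r * y₀ * r⁻¹ ≠ a := fun h => hh r h.symm
    have n5 : r * (r * y₀ * r⁻¹) * r⁻¹ ≠ a := by rw [h2eq]; exact fun h => hh _ h.symm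
    rw [Set.toFinset_card, ← Nat.card_eq_fintype_card, show Nat.card (X : Set G) = 4 from hX4,
      Finset.card_insert_of_notMem (by simp [hy₀1.symm, n1, n2, Ne.symm ha1]),
      Finset.card_insert_of_notMem (by simp [hy1.symm, hy20.symm, n3]),
      Finset.card_insert_of_notMem (by simp [hy21.symm, n4]),
      Finset.card_insert_of_notMem (by simp [n5]), Finset.card_singleton] at hle
    omega
  have hSX' : (S : Subgroup G) = X := by
    refine eq_of_le_of_card_ge hSX ?_
    refine Nat.le_of_dvd Nat.card_pos ?_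
    rw [hX4]
    exact S.pow_dvd_card_of_pow_dvd_card (n := 2) (hX4.symm.dvd.trans (card_subgroup_dvd_card X))
  have hinv : ∀ t : G, orderOf t = 2 → ∃ g : G, t = g * y₀ * g⁻¹ := by
    intro t ht
    obtain ⟨T, hT⟩ := (IsPGroup.of_card (G := zpowers t) (p := 2) (n := 1)
      (by rw [Nat.card_zpowers, ht, pow_one])).exists_le_sylow
    obtain ⟨h, rfl⟩ := MulAction.exists_smul_eq G S T
    have h1 := hT (mem_zpowers t)
    rw [Sylow.coe_subgroup_smul, Subgroup.mem_pointwise_smul_iff_inv_smul_mem, hSX'] at h1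
    simp only [MulAut.smul_def, MulAut.inv_apply, MulAut.conj_symm_apply] at h1
    obtain ⟨g, hg⟩ := hconjX _ h1 (fun h2 => by
      have : t = 1 := by
        calc t = h * (h⁻¹ * t * h) * h⁻¹ := by group
          _ = 1 := by rw [h2]; group
      rw [this, orderOf_one] at ht; omega)
    refine ⟨h * g, ?_⟩
    calc t = h * (h⁻¹ * t * h) * h⁻¹ := by group
      _ = h * g * y₀ * (h * g)⁻¹ := by rw [hg]; group
  -- the centralizer of `P`
  have hCpN : Cp ≤ normalizer ((P : Subgroup G) : Set G) := centralizer_le_normalizer _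
  have hPCp : (P : Subgroup G) ≤ Cp := fun a ha => mem_centralizer_iff.2 fun b hb =>
    comm_of_cyclic (C.hyp.1 P) hb ha
  have hdec : ∀ n ∈ normalizer ((P : Subgroup G) : Set G), ∃ a ∈ (P : Subgroup G), ∃ b ∈ X, n = a * b := by
    intro n hn
    rw [← hsup] at hn
    obtain ⟨a, ha, b, hb, h⟩ := (Coprime.mem_sup_iff hXN).1 hn
    exact ⟨a, ha, b, hb, h.symm⟩
  have hCpsup : Cp = (P : Subgroup G) ⊔ Y.map X.subtype := by
    refine le_antisymm (fun n hn => ?_) (sup_le hPCp ?_)
    · obtain ⟨a, ha, b, hb, rfl⟩ := hdec n (hCpN hn)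
      refine mul_mem_sup ha ⟨⟨b, hb⟩, (hY _).2 ?_, rfl⟩
      simpa using Cp.mul_mem (Cp.inv_mem (hPCp ha)) hn
    · rintro _ ⟨b, hb, rfl⟩
      exact (hY b).1 hb
  have hC : Nat.card Cp = 2 * Nat.card P := by
    rw [hCpsup, Coprime.card_sup_of_coprime ((map_subtype_le _).trans hXN), card_map_of_injective
      X.subtype_injective, hY2, mul_comm]
    obtain ⟨j, hj⟩ := P.2.exists_card_eq
    rw [card_map_of_injective X.subtype_injective, hY2, hj]
    exact Nat.Coprime.pow_left j (by decide)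
  refine Cfsg.Agent.S4018.result P (by haveI := C.hyp.1 P; exact IsCyclic.isMulCommutative)
    (by rw [hNc, hX4, mul_comm]) hC ?_ ?_ C.simple
  · intro g hg c hc hgc
    by_contra hc1
    have hgN : g ∉ normalizer ((P : Subgroup G) : Set G) := by
      intro hgP
      refine hg (Coprime.mem_normalizer_of_forall fun a ha => ?_)
      rw [mem_centralizer_iff]
      intro b hb
      have h1 : g⁻¹ * b * g⁻¹⁻¹ ∈ (P : Subgroup G) := (mem_normalizer_iff.1 (inv_mem hgP) b).1 hb
      rw [inv_inv] at h1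
      have h2 := mem_centralizer_iff.1 ha _ h1
      calc b * (g * a * g⁻¹) = g * ((g⁻¹ * b * g) * a) * g⁻¹ := by group
        _ = g * (a * (g⁻¹ * b * g)) * g⁻¹ := by rw [h2]
        _ = g * a * g⁻¹ * b := by group
    obtain ⟨a, ha, b, hb, rfl⟩ := hdec c (hCpN hc)
    have hbC : b ∈ Cp := by simpa using Cp.mul_mem (Cp.inv_mem (hPCp ha)) hc
    have hab : Commute a b := mem_centralizer_iff.1 hbC a ha
    by_cases ha1 : a = 1
    · subst ha1
      rw [one_mul] at hc hgc hc1
      refine hgN ?_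
      obtain ⟨a', ha', b', hb', h'⟩ := hdec _ (hCpN hgc)
      have hbC' : b' ∈ Cp := by
        have := Cp.mul_mem (Cp.inv_mem (hPCp ha')) hgc
        rw [h', inv_mul_cancel_left] at this
        exact this
      have hab' : Commute a' b' := mem_centralizer_iff.1 hbC' a' ha'
      have hsq : (g * b * g⁻¹) ^ 2 = 1 := by rw [conj_pow, hX2 b hb, mul_one, mul_inv_cancel]
      rw [h', hab'.mul_pow, hX2 b' hb', mul_one] at hsq
      have ha'1 : a' = 1 := orderOf_eq_one_iff.1 (by
        obtain ⟨j, hj⟩ := P.2 ⟨a', ha'⟩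
        exact Nat.eq_one_of_dvd_coprimes (Nat.Coprime.pow_right j (by decide : Nat.Coprime 2 3))
          (orderOf_dvd_of_pow_eq_one hsq) (orderOf_dvd_of_pow_eq_one (by simpa using congrArg Subtype.val hj)))
      rw [ha'1, one_mul] at h'
      have hb'1 : b' ≠ 1 := fun h => hc1 (conj_eq_one_iff.1 (h'.trans h))
      have hbb : b' = b := by
        have hcardY : ∀ u v : Y, u ≠ 1 → v ≠ 1 → u = v := fun u v hu hv =>
          ((Nat.card_eq_two_iff' (1 : Y)).1 hY2).unique hu hv
        exact congrArg (fun u : Y => ((u : X) : G)) (hcardY ⟨⟨b', hb'⟩, (hY _).2 hbC'⟩ ⟨⟨b, hb⟩, (hY _).2 hbC⟩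
          (fun h => hb'1 (congrArg (fun u : Y => ((u : X) : G)) h))
          (fun h => hc1 (congrArg (fun u : Y => ((u : X) : G)) h)))
      refine hCy b hb hbC hc1 (mem_centralizer_singleton_iff.2 ?_)
      rw [← mul_inv_eq_iff_eq_mul]
      exact h'.trans hbb
    · have haP' : ∀ u ∈ (P : Subgroup G), u ≠ 1 → g * u * g⁻¹ ∈ (P : Subgroup G) → False := by
        intro u hu hu1 hgu
        have hgu' : g * u * g⁻¹ ∈ ((g • P : Sylow 3 G) : Subgroup G) := by
          rw [Sylow.coe_subgroup_smul]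
          exact smul_mem_pointwise_smul u (MulAut.conj g) _ hu
        exact hgN (Sylow.smul_eq_iff_mem_normalizer.1
          (C.eq_of_mem (g • P) P hgu' hgu (fun h => hu1 (conj_eq_one_iff.1 h))))
      refine haP' (a ^ 2) (P.1.pow_mem ha 2) ?_ ?_
      · intro h2
        obtain ⟨j, hj⟩ := P.2 ⟨a, ha⟩
        exact ha1 (orderOf_eq_one_iff.1 (Nat.eq_one_of_dvd_coprimes
          (Nat.Coprime.pow_right j (by decide : Nat.Coprime 2 3))
          (orderOf_dvd_of_pow_eq_one h2) (orderOf_dvd_of_pow_eq_one (by simpa using congrArg Subtype.val hj))))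
      · have h2 := Cp.pow_mem hgc 2
        rw [conj_pow, hab.mul_pow, hX2 b hb, mul_one] at h2
        obtain ⟨a', ha', b', hb', h'⟩ := hdec _ (hCpN h2)
        have hbC' : b' ∈ Cp := by
          have := Cp.mul_mem (Cp.inv_mem (hPCp ha')) h2
          rw [h', inv_mul_cancel_left] at this
          exact this
        have hab' : Commute a' b' := mem_centralizer_iff.1 hbC' a' ha'
        obtain ⟨j, hj⟩ := P.2 ⟨a ^ 2, P.1.pow_mem ha 2⟩
        have hp3 : (g * a ^ 2 * g⁻¹) ^ 3 ^ j = 1 := by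
          rw [conj_pow, show (a ^ 2) ^ 3 ^ j = 1 by simpa using congrArg Subtype.val hj, mul_one, mul_inv_cancel]
        rw [h', hab'.mul_pow] at hp3
        have hb'P : b' ^ 3 ^ j ∈ (P : Subgroup G) := by
          rw [eq_inv_of_mul_eq_one_right hp3]; exact P.1.inv_mem (P.1.pow_mem ha' _)
        have hb'X : b' ^ 3 ^ j = b' := by
          obtain ⟨i', hi'⟩ : Odd (3 ^ j) := Odd.pow (by decide)
          rw [hi', pow_succ, pow_mul, hX2 b' hb', one_pow, one_mul]
        rw [hb'X] at hb'P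
        rw [h']
        exact P.1.mul_mem ha' hb'P
  · intro H hH hH2
    have hN4 : Nat.card (normalizer ((P : Subgroup G) : Set G)) = 4 * Nat.card P := by rw [hNc, hX4, mul_comm]
    have hCi : ∀ t : G, orderOf t = 2 → Nat.card (centralizer ({t} : Set G)) ∣ 4 * Nat.card P := by
      intro t ht
      obtain ⟨g, rfl⟩ := hinv t ht
      rw [show Nat.card (centralizer ({g * y₀ * g⁻¹} : Set G)) = Nat.card (centralizer ({y₀} : Set G)) from
        BSW.card_cent_conj g y₀, ← hN4]
      exact card_dvd_of_le (hCy _ hy₀X hy₀C hy₀1)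
    rcases C.proper_cases H hH with h | ⟨P', hP', -⟩
    · obtain ⟨K, hKH, hKp, -, hKmem, k, hk⟩ := Ctx.compl_data h
      obtain ⟨t, ht⟩ := exists_prime_orderOf_dvd_card' (G := H) 2 hH2
      have htK : (t : G) ∈ K := hKmem _ t.2 (by rw [Subgroup.orderOf_coe, ht]; decide)
      have hKC : K ≤ centralizer ({(t : G)} : Set G) := fun a ha => mem_centralizer_singleton_iff.2
        (C.hyp.commute hKp ha htK)
      have hK4 : Nat.card K ∣ 4 := by
        have h1 := (card_dvd_of_le hKC).trans (hCi _ (by rw [Subgroup.orderOf_coe, ht]))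
        obtain ⟨j, hj⟩ := P.2.exists_card_eq
        refine Nat.Coprime.dvd_of_dvd_mul_right ?_ h1
        rw [hj]
        exact ((Nat.prime_three.coprime_iff_not_dvd.2 hKp).symm).pow_right j
      rw [hk]
      refine Nat.mul_dvd_mul hK4 (P.pow_dvd_card_of_pow_dvd_card ?_)
      exact (hk ▸ dvd_mul_left _ _ : 3 ^ k ∣ Nat.card H).trans (card_subgroup_dvd_card H)
    · obtain ⟨g, rfl⟩ := MulAction.exists_smul_eq G P P'
      have h1 := card_dvd_of_le hP'
      rw [Sylow.coe_subgroup_smul] at h1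
      change Nat.card H ∣ Nat.card (normalizer
          (((P : Subgroup G).map (MulAut.conj g).toMonoidHom : Subgroup G) : Set G)) at h1
      rwa [← map_equiv_normalizer_eq, card_map_of_injective (MulAut.conj g).injective, hN4] at h1

end Ctx

end Cfsg.Agent.CyclicSylowAbelian
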