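/-
The simple case with `C_X(P) = 1`: all centralizers are abelian.

Main result: `Ctx.false_of_free`.
-/
import Cfsg.Agent.Lib.CyclicSylowAbelian.CaseNontrivial
import Cfsg.Agent.S0183
import Cfsg.Agent.Lib.BSW.Basic

set_option autoImplicit false

namespace Cfsg.Agent.CyclicSylowAbelian

open Subgroup

variable {G : Type*} [Group G] {p : ℕ}

namespace Ctx

variable [Finite G] [hp : Fact p.Prime] (C : Ctx p G)
include C

theorem cent_eq_of_free (P : Sylow p G) {X : Subgroup G} (hXN : X ≤ normalizer ((P : Subgroup G) : Set G))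
    (hsup : (P : Subgroup G) ⊔ X = normalizer ((P : Subgroup G) : Set G))
    (hfree : ∀ y ∈ X, y ∈ centralizer ((P : Subgroup G) : Set G) → y = 1) (hXp : ¬ p ∣ Nat.card X)
    (Q : Sylow p G) {z : G} (hz : z ∈ (Q : Subgroup G)) (hz1 : z ≠ 1) :
    centralizer ({z} : Set G) ≤ (Q : Subgroup G) := by
  obtain ⟨g, rfl⟩ := MulAction.exists_smul_eq G P Q
  intro n hn
  rw [Sylow.coe_subgroup_smul, Subgroup.mem_pointwise_smul_iff_inv_smul_mem] at hz ⊢
  simp only [MulAut.smul_def, MulAut.inv_apply, MulAut.conj_symm_apply] at hz ⊢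
  set z' := g⁻¹ * z * g with hz'
  have hz'1 : z' ≠ 1 := fun h => hz1 (by
    calc z = g * (g⁻¹ * z * g) * g⁻¹ := by group
      _ = 1 := by rw [← hz', h]; group)
  have hn' : g⁻¹ * n * g ∈ centralizer ({z'} : Set G) := mem_centralizer_singleton_iff.2 (by
    calc g⁻¹ * n * g * z' = g⁻¹ * (n * z) * g := by rw [hz']; group
      _ = g⁻¹ * (z * n) * g := by rw [mem_centralizer_singleton_iff.1 hn]
      _ = z' * (g⁻¹ * n * g) := by rw [hz']; group)
  have h1 := C.centralizer_le P hz hz'1 hn'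
  rw [← hsup] at h1
  obtain ⟨a, ha, b, hb, hab⟩ := (Coprime.mem_sup_iff hXN).1 h1
  have hbz : b * z' = z' * b := by
    have e : a * b * z' = z' * (a * b) := by rw [hab]; exact mem_centralizer_singleton_iff.1 hn'
    have e2 : a * z' = z' * a := comm_of_cyclic (C.hyp.1 P) ha hz
    calc b * z' = a⁻¹ * (a * b * z') := by group
      _ = a⁻¹ * (z' * a) * b := by rw [e]; group
      _ = z' * b := by rw [← e2]; group
  have hb1 : b = 1 := hfree b hb (fpf P.2 (C.hyp.1 P) (hXN hb)
    (hp.out.coprime_iff_not_dvd.2 fun hd =>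
      hXp (hd.trans (Subgroup.orderOf_coe (⟨b, hb⟩ : X) ▸ orderOf_dvd_natCard _))).symm hz hz'1 hbz)
  rw [hb1, mul_one] at hab
  exact hab ▸ ha

omit C in
theorem mem_sylow_of_orderOf {z : G} {k : ℕ} (hz : orderOf z = p ^ k) : ∃ Q : Sylow p G, z ∈ (Q : Subgroup G) := by
  obtain ⟨Q, hQ⟩ := (IsPGroup.of_card (G := zpowers z) (p := p) (n := k)
    (by rw [Nat.card_zpowers, hz])).exists_le_sylow
  exact ⟨Q, hQ (mem_zpowers z)⟩

theorem false_of_cent
    (hcent : ∀ (Q : Sylow p G), ∀ z ∈ (Q : Subgroup G), z ≠ 1 → centralizer ({z} : Set G) ≤ (Q : Subgroup G)) :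
    False := by
  classical
  haveI := C.simple
  -- elements of order prime to `p` have centralizers of order prime to `p`
  have hco : ∀ g : G, g ≠ 1 → (orderOf g).Coprime p → ¬ p ∣ Nat.card (centralizer ({g} : Set G)) := by
    intro g hg1 hgp hd
    obtain ⟨z, hz⟩ := exists_prime_orderOf_dvd_card' (G := centralizer ({g} : Set G)) p hd
    rw [← Subgroup.orderOf_coe] at hz
    obtain ⟨Q, hQ⟩ := mem_sylow_of_orderOf (k := 1) (by rw [hz, pow_one])
    have hgQ : g ∈ (Q : Subgroup G) := hcent Q _ hQ (fun h => by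
      rw [h, orderOf_one] at hz; exact hp.out.ne_one hz.symm)
      (mem_centralizer_singleton_iff.2 (mem_centralizer_singleton_iff.1 z.2).symm)
    obtain ⟨j, hj⟩ := Q.2 ⟨g, hgQ⟩
    exact hg1 (orderOf_eq_one_iff.1 (Nat.eq_one_of_dvd_coprimes (hgp.pow_right j) dvd_rfl
      (orderOf_dvd_of_pow_eq_one (by simpa using congrArg Subtype.val hj))))
  have hpart : ∀ g : G, g ≠ 1 → (orderOf g).Coprime p ∨ ∃ Q : Sylow p G,
      centralizer ({g} : Set G) ≤ (Q : Subgroup G) := by
    intro g hg1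
    by_cases hd : p ∣ orderOf g
    · right
      obtain ⟨c, hc⟩ := hd
      have hc0 : c ≠ 0 := fun h => by
        have h1 := orderOf_pos g
        rw [hc, h, mul_zero] at h1
        omega
      have hz : orderOf (g ^ c) = p := by
        rw [orderOf_pow' g hc0, hc, Nat.gcd_eq_right (dvd_mul_left c p),
          Nat.mul_div_cancel _ (Nat.pos_of_ne_zero hc0)]
      obtain ⟨Q, hQ⟩ := mem_sylow_of_orderOf (k := 1) (by rw [hz, pow_one])
      exact ⟨Q, fun n hn => hcent Q _ hQ (fun h => by rw [h, orderOf_one] at hz; exact hp.out.ne_one hz.symm)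
        (mem_centralizer_singleton_iff.2
          ((show Commute n g from mem_centralizer_singleton_iff.1 hn).pow_right c))⟩
    · exact Or.inl (hp.out.coprime_iff_not_dvd.2 hd).symm
  have hCA : ∀ g : G, g ≠ 1 → ∀ a ∈ centralizer ({g} : Set G), ∀ b ∈ centralizer ({g} : Set G), a * b = b * a := by
    intro g hg1 a ha b hb
    rcases hpart g hg1 with h | ⟨Q, hQ⟩
    · exact C.hyp.commute (hco g hg1 h) ha hb
    · exact comm_of_cyclic (C.hyp.1 Q) (hQ ha) (hQ hb)
  rcases Nat.even_or_odd (Nat.card G) with heven | hodd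
  swap
  · -- odd order
    have hsol := Cfsg.Agent.S0183.result hodd (fun g hg => by
      exact @CommGroup.isNilpotent _ { (inferInstance : Group (centralizer ({g} : Set G))) with
        mul_comm := fun a b => Subtype.ext (hCA g hg a a.2 b b.2) })
    haveI := hsol
    exact C.comm ⟨⟨(IsSimpleGroup.comm_iff_isSolvable (G := G)).2 hsol⟩⟩
  -- even order
  haveI h2f : Fact (Nat.Prime 2) := ⟨Nat.prime_two⟩
  have hp2 := C.odd_p
  have hodd_p : Nat.Coprime 2 p := (Nat.coprime_primes Nat.prime_two hp.out).2 (Ne.symm hp2)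
  have hinvQ : ∀ u : G, orderOf u = 2 → ∀ Q : Sylow p G, u ∈ normalizer ((Q : Subgroup G) : Set G) →
      ∀ x ∈ (Q : Subgroup G), u * x * u⁻¹ = x⁻¹ := by
    intro u hu Q huN
    refine (BSW.inverts_of_free (Q : Subgroup G) (by rw [← pow_two, ← hu, pow_orderOf_eq_one])
      (fun x hx => (mem_normalizer_iff.1 huN x).1 hx) fun x hx hc => ?_).1
    by_contra hx1
    have huQ := hcent Q x hx hx1 (mem_centralizer_singleton_iff.2 hc)
    obtain ⟨j, hj⟩ := Q.2 ⟨u, huQ⟩
    have h1 := Nat.eq_one_of_dvd_coprimes (hodd_p.pow_right j) hu.dvd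
      (orderOf_dvd_of_pow_eq_one (show u ^ p ^ j = 1 by simpa using congrArg Subtype.val hj))
    omega
  have hnotQ : ∀ u : G, orderOf u = 2 → ∀ Q : Sylow p G, u ∉ (Q : Subgroup G) := by
    intro u hu Q huQ
    obtain ⟨j, hj⟩ := Q.2 ⟨u, huQ⟩
    have h1 := Nat.eq_one_of_dvd_coprimes (hodd_p.pow_right j) hu.dvd
      (orderOf_dvd_of_pow_eq_one (show u ^ p ^ j = 1 by simpa using congrArg Subtype.val hj))
    omega
  have hTI : ∀ (Q Q' : Sylow p G) (z : G), z ∈ (Q : Subgroup G) → z ∈ (Q' : Subgroup G) → z ≠ 1 → Q = Q' :=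
    fun Q Q' _ h h' h1 => C.eq_of_mem Q Q' h h' h1
  have hN_of : ∀ (Q : Sylow p G) (u z : G), z ∈ (Q : Subgroup G) → z ≠ 1 → u * z * u⁻¹ ∈ (Q : Subgroup G) →
      u ∈ normalizer ((Q : Subgroup G) : Set G) := by
    intro Q u z hz hz1 huz
    have h1 : u * z * u⁻¹ ∈ ((u • Q : Sylow p G) : Subgroup G) := by
      rw [Sylow.coe_subgroup_smul]
      exact smul_mem_pointwise_smul z (MulAut.conj u) _ hz
    exact Sylow.smul_eq_iff_mem_normalizer.1 (hTI (u • Q) Q _ h1 huz (fun h => hz1 (conj_eq_one_iff.1 h)))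
  -- products of two noncommuting involutions
  have hprod : ∀ s t : G, orderOf s = 2 → orderOf t = 2 → s * t ≠ t * s →
      ∃ Q : Sylow p G, s * t ∈ (Q : Subgroup G) ∧ t ∈ normalizer ((Q : Subgroup G) : Set G) := by
    intro s t hs ht hne
    have hss : s * s = 1 := by rw [← pow_two, ← hs, pow_orderOf_eq_one]
    have htt : t * t = 1 := by rw [← pow_two, ← ht, pow_orderOf_eq_one]
    have hsi : s⁻¹ = s := inv_eq_of_mul_eq_one_right hss
    have hti : t⁻¹ = t := inv_eq_of_mul_eq_one_right htt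
    set g := s * t with hg
    have hg1 : g ≠ 1 := fun h => hne (by
      rw [hg, mul_eq_one_iff_eq_inv, hti] at h
      rw [hg, h])
    have hsg : s * g * s⁻¹ = g⁻¹ := by rw [hg, mul_inv_rev, hsi, hti, ← mul_assoc, hss, one_mul]
    rcases Nat.even_or_odd (orderOf g) with he | ho
    · exfalso
      obtain ⟨c, hc⟩ := he
      have hc0 : c ≠ 0 := fun h => by
        have h1 := orderOf_pos g
        omega
      have hi1 : g ^ c ≠ 1 := fun h => by
        have := Nat.le_of_dvd (Nat.pos_of_ne_zero hc0) (orderOf_dvd_of_pow_eq_one h)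
        omega
      have hii : (g ^ c)⁻¹ = g ^ c := inv_eq_of_mul_eq_one_right (by rw [← pow_add, ← hc, pow_orderOf_eq_one])
      have hsC : s ∈ centralizer ({g ^ c} : Set G) := mem_centralizer_singleton_iff.2 (by
        rw [← mul_inv_eq_iff_eq_mul, ← conj_pow, hsg, inv_pow, hii])
      have htC : t ∈ centralizer ({g ^ c} : Set G) := by
        have : t = s⁻¹ * g := by rw [hg, inv_mul_cancel_left]
        rw [this]
        exact Subgroup.mul_mem _ (inv_mem hsC) (mem_centralizer_singleton_iff.2 ((Commute.refl g).pow_right c))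
      exact hne (hCA _ hi1 s hsC t htC)
    · rcases hpart g hg1 with h | ⟨Q, hQ⟩
      · exfalso
        have hsn : s ∈ normalizer (zpowers g : Set G) := Coprime.mem_normalizer_of_forall fun a ha => by
          obtain ⟨i, rfl⟩ := mem_zpowers_iff.1 ha
          rw [← conj_zpow, hsg, inv_zpow]
          exact inv_mem (zpow_mem (mem_zpowers g) i)
        have hcomm := C.hyp.commute_of_normalizes (not_dvd_zpowers h) (x := s) (by rw [hs]; exact hodd_p) hsn
          (mem_zpowers g)
        have hg2 : g ^ 2 = 1 := by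
          rw [← mul_inv_eq_iff_eq_mul, hsg, inv_eq_iff_mul_eq_one] at hcomm
          rw [pow_two, hcomm]
        have h2 := orderOf_dvd_of_pow_eq_one hg2
        rcases (Nat.dvd_prime Nat.prime_two).1 h2 with h3 | h3
        · exact hg1 (orderOf_eq_one_iff.1 h3)
        · rw [h3] at ho
          exact Nat.not_odd_iff_even.2 even_two ho
      · have hgQ : g ∈ (Q : Subgroup G) := hQ (mem_centralizer_singleton_iff.2 rfl)
        refine ⟨Q, hgQ, ?_⟩
        have hsN := hN_of Q s g hgQ hg1 (by rw [hsg]; exact inv_mem hgQ)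
        have : t = s⁻¹ * g := by rw [hg, inv_mul_cancel_left]
        rw [this]
        exact mul_mem (inv_mem hsN) (le_normalizer hgQ)
  -- fix an involution
  obtain ⟨t, ht⟩ := exists_prime_orderOf_dvd_card' (G := G) 2 (even_iff_two_dvd.1 heven)
  have ht1 : t ≠ 1 := fun h => by rw [h, orderOf_one] at ht; omega
  have htt : t * t = 1 := by rw [← pow_two, ← ht, pow_orderOf_eq_one]
  have hti : t⁻¹ = t := inv_eq_of_mul_eq_one_right htt
  set K := centralizer ({t} : Set G) with hK
  have hKp : ¬ p ∣ Nat.card K := hco t ht1 (by rw [ht]; exact hodd_p)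
  set I : Set G := {s | orderOf s = 2} with hI
  have hIinv : ∀ r : G, ∀ s ∈ I, r * s * r⁻¹ ∈ I := fun r s hs => by
    change orderOf (r * s * r⁻¹) = 2
    rw [show r * s * r⁻¹ = MulAut.conj r s from rfl, MulEquiv.orderOf_eq]
    exact hs
  have hfpf : ∀ (r : G) (k : ℕ) (J : Set G), orderOf r = p ^ k → r ≠ 1 → J ⊆ I →
      (∀ a ∈ J, r * a * r⁻¹ ∈ J) → p ∣ J.ncard := by
    intro r k J hr hr1 hJ hinv
    have h := ncard_modEq_fixed (show r ^ p ^ k = 1 by rw [← hr, pow_orderOf_eq_one]) J hinv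
    rw [show {a ∈ J | r * a = a * r} = (∅ : Set G) from Set.eq_empty_iff_forall_notMem.2 fun a ⟨ha, hc⟩ => by
      obtain ⟨Q, hQ⟩ := mem_sylow_of_orderOf hr
      exact hnotQ a (hJ ha) Q (hcent Q r hQ hr1 (mem_centralizer_singleton_iff.2 hc.symm)),
      Set.ncard_empty] at h
    exact Nat.modEq_zero_iff_dvd.1 h
  have hIp : p ∣ I.ncard := by
    obtain ⟨z, hz⟩ := exists_prime_orderOf_dvd_card' (G := G) p C.dvd_card
    exact hfpf z 1 I (by rw [hz, pow_one]) (fun h => by rw [h, orderOf_one] at hz; exact hp.out.ne_one hz.symm)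
      subset_rfl (hIinv z)
  have hKIp : p ∣ (I ∩ (K : Set G)).ncard := by
    obtain ⟨T, hT⟩ := (IsPGroup.of_card (G := zpowers t) (p := 2) (n := 1)
      (by rw [Nat.card_zpowers, ht, pow_one])).exists_le_sylow
    have htT : t ∈ (T : Subgroup G) := hT (mem_zpowers t)
    have hTp : ¬ p ∣ Nat.card (T : Subgroup G) := by
      obtain ⟨j, hj⟩ := T.2.exists_card_eq
      rw [hj]
      exact fun h => hp2 ((Nat.prime_dvd_prime_iff_eq hp.out Nat.prime_two).1 (hp.out.dvd_of_dvd_pow h))
    haveI : IsMulCommutative (T : Subgroup G) := C.hyp.2 _ hTp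
    obtain ⟨r, hrN, ⟨k, hk⟩, hrC⟩ : ∃ r ∈ normalizer ((T : Subgroup G) : Set G),
        (∃ k, orderOf r = p ^ k) ∧ r ∉ centralizer ((T : Subgroup G) : Set G) := by
      by_contra hh
      push Not at hh
      obtain ⟨T', N, hNn, hNc'⟩ := Transfer.hasNormalPComplement_of_normalizer_le_centralizer T
        (Transfer.normalizer_le_centralizer_of_primePow T fun l hl hlq _ y hy ⟨k, hk⟩ => by
          by_cases hlp : l = p
          · exact hh y hy ⟨k, by rw [hk, hlp]⟩
          · refine mem_centralizer_iff.2 fun a ha => (C.hyp.commute_of_normalizes hTp ?_ hy ha).symm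
            rw [hk]
            exact ((Nat.coprime_primes hl hp.out).2 hlp).pow_left k)
      have h1 := hNc'.card_mul_card
      rcases C.simple.eq_bot_or_eq_top_of_normal N hNn with h | h
      · rw [h, card_bot, one_mul] at h1
        obtain ⟨j, hj⟩ := T'.2.exists_card_eq
        exact hp2 ((Nat.prime_dvd_prime_iff_eq hp.out Nat.prime_two).1 (hp.out.dvd_of_dvd_pow
          (hj ▸ h1 ▸ C.dvd_card)))
      · rw [h, card_top] at h1
        have h2 : Nat.card (T' : Subgroup G) = 1 := (Nat.mul_eq_left Nat.card_pos.ne').1 h1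
        have h3 := T'.dvd_card_of_dvd_card (even_iff_two_dvd.1 heven)
        rw [h2] at h3
        omega
    have hr1 : r ≠ 1 := fun h => hrC (h ▸ one_mem _)
    refine hfpf r k _ hk hr1 Set.inter_subset_left fun a ⟨ha, haK⟩ => ⟨hIinv r a ha, ?_⟩
    have haT : a ∈ centralizer ((T : Subgroup G) : Set G) := mem_centralizer_iff.2 fun b hb =>
      (hCA t ht1 a haK b (mem_centralizer_singleton_iff.2
        (C.hyp.commute hTp hb htT))).symm
    rw [SetLike.mem_coe, hK, mem_centralizer_singleton_iff]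
    have h1 : r⁻¹ * t * r⁻¹⁻¹ ∈ (T : Subgroup G) := (mem_normalizer_iff.1 (inv_mem hrN) t).1 htT
    rw [inv_inv] at h1
    have h2 := mem_centralizer_iff.1 haT _ h1
    calc r * a * r⁻¹ * t = r * (a * (r⁻¹ * t * r)) * r⁻¹ := by group
      _ = r * ((r⁻¹ * t * r) * a) * r⁻¹ := by rw [h2]
      _ = t * (r * a * r⁻¹) := by group
  -- Sylow subgroups normalized by `t`
  let St := {Q : Sylow p G // t ∈ normalizer ((Q : Subgroup G) : Set G)}
  by_cases hex : ∀ s ∈ I, s * t = t * s
  · -- `t` commutes with every involution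
    have hKtop : K = ⊤ := by
      have hle : (closure I) ≤ K := (closure_le _).2 fun s hs => mem_centralizer_singleton_iff.2 (hex s hs)
      have hn : (closure I).Normal := by
        constructor
        intro n hn g
        have : (closure I).map (MulAut.conj g).toMonoidHom ≤ closure I := by
          rw [MonoidHom.map_closure]
          refine closure_mono ?_
          rintro _ ⟨s, hs, rfl⟩
          exact hIinv g s hs
        exact this ⟨n, hn, rfl⟩
      rcases C.simple.eq_bot_or_eq_top_of_normal _ hn with h | h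
      · exact absurd (mem_bot.1 (h ▸ subset_closure (show t ∈ I from ht))) ht1
      · exact eq_top_iff.2 (h ▸ hle)
    exact C.centralizer_ne_top ht1 hKtop
  push Not at hex
  obtain ⟨s₀, hs₀, hne₀⟩ := hex
  obtain ⟨Q₀, -, hQ₀⟩ := hprod s₀ t hs₀ ht hne₀
  -- `K` is transitive on them
  letI : MulAction K (Sylow p G) := MulAction.compHom _ K.subtype
  have htrans : ∀ Q : St, Q.1 ∈ MulAction.orbit K Q₀ := by
    rintro ⟨Q, hQ⟩
    obtain ⟨h, hh⟩ := MulAction.exists_smul_eq G Q₀ Q
    subst hh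
    set t' := h * t * h⁻¹ with ht'
    have ht'o : orderOf t' = 2 := hIinv h t ht
    have ht'N : t' ∈ normalizer (((h • Q₀ : Sylow p G) : Subgroup G) : Set G) := by
      apply Sylow.smul_eq_iff_mem_normalizer.1
      rw [smul_smul, ht', inv_mul_cancel_right, ← smul_smul, Sylow.smul_eq_iff_mem_normalizer.2 hQ₀]
    have hzC : t⁻¹ * t' ∈ ((h • Q₀ : Sylow p G) : Subgroup G) := by
      obtain ⟨z₀, hz₀⟩ := exists_prime_orderOf_dvd_card' (G := ((h • Q₀ : Sylow p G) : Subgroup G)) p
        ((h • Q₀).dvd_card_of_dvd_card C.dvd_card)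
      rw [← Subgroup.orderOf_coe] at hz₀
      refine hcent _ _ z₀.2 (fun h1 => by rw [h1, orderOf_one] at hz₀; exact hp.out.ne_one hz₀.symm)
        (mem_centralizer_singleton_iff.2 ?_)
      rw [← mul_inv_eq_iff_eq_mul]
      have e1 := hinvQ t' ht'o _ ht'N _ z₀.2
      have e2 := hinvQ t ht _ hQ _ (inv_mem z₀.2)
      calc t⁻¹ * t' * (z₀ : G) * (t⁻¹ * t')⁻¹ = t * (t' * (z₀ : G) * t'⁻¹) * t⁻¹ := by
            rw [mul_inv_rev, inv_inv, hti]; group
        _ = (z₀ : G) := by rw [e1, e2, inv_inv]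
    obtain ⟨w, hw, hw2⟩ : ∃ w ∈ ((h • Q₀ : Sylow p G) : Subgroup G), w * w = t⁻¹ * t' := by
      set z := t⁻¹ * t'
      have hodd : Odd (orderOf z) := by
        obtain ⟨j, hj⟩ := (h • Q₀).2 ⟨z, hzC⟩
        exact Odd.of_dvd_nat ((Nat.Prime.odd_of_ne_two hp.out hp2).pow)
          (orderOf_dvd_of_pow_eq_one (show z ^ p ^ j = 1 by simpa using congrArg Subtype.val hj))
      obtain ⟨j, hj⟩ := hodd
      refine ⟨z ^ (j + 1), Subgroup.pow_mem _ hzC _, ?_⟩
      rw [← pow_add, show j + 1 + (j + 1) = orderOf z + 1 by omega, pow_succ, pow_orderOf_eq_one, one_mul]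
    have hconj : w * t' * w⁻¹ = t := by
      have e := hinvQ t ht _ hQ w hw
      have ht'' : t' = t * (w * w) := by rw [hw2, mul_inv_cancel_left]
      have e' : w * t = t * w⁻¹ := by
        rw [← e]
        calc w * t = (t * t) * w * t := by rw [htt, one_mul]
          _ = t * (t * w * t⁻¹) := by rw [hti]; group
      calc w * t' * w⁻¹ = (w * t) * w := by rw [ht'']; group
        _ = t := by rw [e']; group
    refine ⟨⟨w * h, mem_centralizer_singleton_iff.2 ?_⟩, ?_⟩
    · calc w * h * t = (w * (h * t * h⁻¹) * w⁻¹) * (w * h) := by group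
        _ = t * (w * h) := by rw [← ht', hconj]
    · change (w * h) • Q₀ = h • Q₀
      rw [← smul_smul]
      exact Sylow.smul_eq_iff_mem_normalizer.2 (le_normalizer hw)
  have horb : ∀ Q : Sylow p G, Q ∈ MulAction.orbit K Q₀ → t ∈ normalizer ((Q : Subgroup G) : Set G) := by
    rintro _ ⟨⟨k, hk⟩, rfl⟩
    change t ∈ normalizer (((k • Q₀ : Sylow p G) : Subgroup G) : Set G)
    apply Sylow.smul_eq_iff_mem_normalizer.1
    rw [smul_smul, ← mem_centralizer_singleton_iff.1 hk, ← smul_smul, Sylow.smul_eq_iff_mem_normalizer.2 hQ₀]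
  have hStp : ¬ p ∣ Nat.card St := fun hd => hKp (hd.trans (by
    rw [Nat.card_congr (Equiv.subtypeEquivRight (p := fun Q : Sylow p G => t ∈ normalizer ((Q : Subgroup G) : Set G))
      (q := fun Q => Q ∈ MulAction.orbit K Q₀) fun Q => ⟨fun h => htrans ⟨Q, h⟩, horb Q⟩)]
    exact ⟨Nat.card (MulAction.stabilizer K Q₀), by
      rw [← Nat.card_congr (MulAction.orbitProdStabilizerEquivGroup K Q₀), Nat.card_prod]⟩))
  -- counting
  set N : Set G := {s | s ∈ I ∧ s * t ≠ t * s} with hN
  obtain ⟨j, hj⟩ := (default : Sylow p G).2.exists_card_eq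
  have hj0 : j ≠ 0 := fun h => by
    have h1 := (default : Sylow p G).dvd_card_of_dvd_card C.dvd_card
    rw [hj, h, pow_zero] at h1
    exact hp.out.ne_one (Nat.dvd_one.1 h1)
  have hNcard : N.ncard = Nat.card St * (p ^ j - 1) := by
    have hbij : Nat.card (Σ Q : St, {g : G // g ∈ (Q.1 : Subgroup G) ∧ g ≠ 1}) = N.ncard := by
      rw [← Nat.card_coe_set_eq]
      refine Nat.card_congr (Equiv.ofBijective (fun a => ⟨a.2.1 * t, ?_⟩) ⟨?_, ?_⟩)
      · obtain ⟨⟨Q, hQ⟩, g, hgQ, hg1⟩ := a
        change g * t ∈ N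
        have hinv := hinvQ t ht Q hQ g hgQ
        have hodd_g : ¬ g = g⁻¹ := fun h => by
          obtain ⟨i, hi⟩ := Q.2 ⟨g, hgQ⟩
          exact hg1 (orderOf_eq_one_iff.1 (Nat.eq_one_of_dvd_coprimes (hodd_p.pow_right i)
            (orderOf_dvd_of_pow_eq_one (show g ^ 2 = 1 by rw [pow_two]; exact mul_eq_one_iff_eq_inv.2 h))
            (orderOf_dvd_of_pow_eq_one (by simpa using congrArg Subtype.val hi))))
        refine ⟨orderOf_eq_prime ?_ ?_, ?_⟩
        · calc (g * t) ^ 2 = g * (t * g * t⁻¹) * (t * t) := by rw [pow_two]; group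
            _ = 1 := by rw [hinv, htt, mul_inv_cancel, one_mul]
        · intro h
          rw [mul_eq_one_iff_eq_inv, hti] at h
          exact hnotQ t ht Q (h ▸ hgQ)
        · intro h
          refine hodd_g ?_
          calc g = g * t * t := by rw [mul_assoc, htt, mul_one]
            _ = t * (g * t) := h
            _ = g⁻¹ := by rw [← hinv, hti, mul_assoc]
      · rintro ⟨⟨Q, hQ⟩, g, hgQ, hg1⟩ ⟨⟨Q', hQ'⟩, g', hgQ', hg1'⟩ h
        obtain rfl : g = g' := mul_right_cancel (congrArg Subtype.val h)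
        obtain rfl := hTI Q Q' g hgQ hgQ' hg1
        rfl
      · rintro ⟨s, hs, hne⟩
        obtain ⟨Q, hgQ, hQ⟩ := hprod s t hs ht hne
        refine ⟨⟨⟨Q, hQ⟩, ⟨s * t, hgQ, fun h => hne (by
          rw [mul_eq_one_iff_eq_inv, hti] at h
          rw [h])⟩⟩, Subtype.ext ?_⟩
        change s * t * t = s
        rw [mul_assoc, htt, mul_one]
    haveI : Fintype St := Fintype.ofFinite _
    rw [← hbij, Nat.card_sigma, Finset.sum_const_nat (m := p ^ j - 1) fun Q _ => ?_, Finset.card_univ,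
      Nat.card_eq_fintype_card]
    rw [BSW.card_ne_one, Nat.card_congr (Q.1.equiv default).toEquiv, hj]
  have hsplit : I.ncard = (I ∩ (K : Set G)).ncard + N.ncard := by
    rw [← Set.ncard_union_eq ?_ (Set.toFinite _) (Set.toFinite _)]
    · congr 1
      ext s
      constructor
      · intro hs
        by_cases hc : s * t = t * s
        · exact Or.inl ⟨hs, mem_centralizer_singleton_iff.2 hc⟩
        · exact Or.inr ⟨hs, hc⟩
      · rintro (h | h) <;> exact h.1
    · exact Set.disjoint_left.2 fun s h1 h2 => h2.2 (mem_centralizer_singleton_iff.1 h1.2)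
  rw [hsplit, ← Nat.dvd_add_iff_right hKIp] at hIp
  rw [hNcard] at hIp
  rcases hp.out.dvd_mul.1 hIp with h | h
  · exact hStp h
  · have h1 : p ∣ p ^ j := dvd_pow_self p hj0
    have h2 := Nat.dvd_sub h1 h
    rw [Nat.sub_sub_self (Nat.one_le_pow _ _ hp.out.pos)] at h2
    exact hp.out.ne_one (Nat.dvd_one.1 h2)

end Ctx

end Cfsg.Agent.CyclicSylowAbelian
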