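/-
Finite groups with cyclic Sylow `p`-subgroups and abelian `p'`-subgroups have a normal `p`-complement
or a normal Sylow `p`-subgroup.

Main result: `CyclicSylowAbelian.concl`.
-/
import Cfsg.Agent.Lib.CyclicSylowAbelian.CaseTrivial

set_option autoImplicit false

namespace Cfsg.Agent.CyclicSylowAbelian

open Subgroup

universe u

theorem false_of_ctx {G : Type*} [Group G] [Finite G] {p : ℕ} [Fact p.Prime] (C : Ctx p G) : False := by
  classical
  obtain ⟨P⟩ := (inferInstance : Nonempty (Sylow p G))
  obtain ⟨X, hXN, hXp, hsup, hNc, hmax, x₀, hx₀X, -, hx₀C⟩ := C.exists_compl P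
  by_cases hY : ∀ y ∈ X, y ∈ centralizer ((P : Subgroup G) : Set G) → y = 1
  · exact C.false_of_cent fun Q z hz hz1 => C.cent_eq_of_free P hXN hsup hY hXp Q hz hz1
  · push Not at hY
    obtain ⟨y, hyX, hyC, hy1⟩ := hY
    exact C.false_of_fixed P hXN hXp hsup hNc hmax hx₀X hx₀C hyX hyC hy1

theorem concl_aux (p : ℕ) [hp : Fact p.Prime] : ∀ (n : ℕ) (G : Type u) [Group G] [Finite G],
    Nat.card G ≤ n → Hyp p G → Concl p G := by
  intro n
  induction n with
  | zero => intro G _ _ hn; exact absurd hn (by have := Nat.card_pos (α := G); omega)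
  | succ n ih =>
    intro G _ _ hn h
    by_contra hC
    have hnc : ¬ Cfsg.HasNormalPComplement p G := fun h' => hC (Or.inl h')
    have hsmall : ∀ N : Subgroup G, N ≠ ⊥ → ∀ [N.Normal], Nat.card (G ⧸ N) ≤ n := by
      intro N hN _
      have h1 := N.card_eq_card_quotient_mul_card_subgroup
      have h2 : 1 < Nat.card N := N.one_lt_card_iff_ne_bot.2 hN
      have h3 : 0 < Nat.card (G ⧸ N) := Nat.card_pos
      nlinarith
    have hU : ∀ N : Subgroup G, N.Normal → N ≠ ⊥ → ¬ p ∣ Nat.card N → False := fun N hN hne hd => by
      haveI := hN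
      exact hC (concl_of_pPrime_normal h N hd (ih _ (hsmall N hne) (h.quotient N (Or.inl hd))))
    have hR : ∀ N : Subgroup G, N.Normal → N ≠ ⊥ → IsPGroup p N → False := fun N hN hne hp' => by
      haveI := hN
      exact hC (concl_of_pGroup_normal h N hp' (ih _ (hsmall N hne) (h.quotient N (Or.inr hp'))))
    have hsub : ∀ H : Subgroup G, H ≠ ⊤ → Concl p H := fun H hH => by
      refine ih _ ?_ (h.subgroup H)
      have h1 : Nat.card H < Nat.card G := lt_of_le_of_ne (card_le_card_group H) fun e => hH (eq_top_of_card_eq _ e)
      omega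
    have hnt : Nontrivial G := by
      rw [← Finite.one_lt_card_iff_nontrivial]
      by_contra hle
      refine hnc (Transfer.hasNormalPComplement_of_not_dvd fun hd => ?_)
      have := Nat.le_of_dvd Nat.card_pos hd
      have := hp.out.two_le
      omega
    have hsimple : IsSimpleGroup G := by
      refine { toNontrivial := hnt, eq_bot_or_eq_top_of_normal := fun M hM => ?_ }
      by_contra hh
      push Not at hh
      haveI := hM
      rcases hsub M hh.2 with hc | hc
      · have hKn : ((Cfsg.pResidual p M).map M.subtype).Normal := by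
          constructor
          intro a ha g
          rw [Transfer.map_pResidual_subtype] at ha ⊢
          have : (closure {g : G | g ∈ M ∧ Nat.Coprime (orderOf g) p}).map (MulAut.conj g).toMonoidHom ≤
              closure {g : G | g ∈ M ∧ Nat.Coprime (orderOf g) p} := by
            rw [MonoidHom.map_closure]
            refine closure_mono ?_
            rintro _ ⟨s, hs, rfl⟩
            refine ⟨hM.conj_mem s hs.1 g, ?_⟩
            rw [MulEquiv.coe_toMonoidHom, MulEquiv.orderOf_eq]
            exact hs.2
          exact this ⟨a, ha, rfl⟩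
        have hKp : ¬ p ∣ Nat.card ((Cfsg.pResidual p M).map M.subtype) := by
          rw [card_map_of_injective M.subtype_injective]
          exact hp.out.coprime_iff_not_dvd.1 (Transfer.hasNormalPComplement_iff_coprime.1 hc).symm
        by_cases hb : (Cfsg.pResidual p M).map M.subtype = ⊥
        · rw [map_eq_bot_iff_of_injective _ M.subtype_injective] at hb
          refine hR M hM hh.1 ?_
          obtain ⟨k, hk⟩ := Transfer.exists_index_pResidual (G := M) (p := p)
          rw [hb, index_bot] at hk
          exact IsPGroup.of_card (n := k) hk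
        · exact hU _ hKn hb hKp
      · obtain ⟨R⟩ := (inferInstance : Nonempty (Sylow p M))
        by_cases hd : p ∣ Nat.card M
        · haveI := hc R
          haveI : (R : Subgroup M).Characteristic := Sylow.characteristic_of_normal R (hc R)
          refine hR _ (ConjAct.normal_of_characteristic_of_normal) ?_ (R.2.map M.subtype)
          exact fun hb => R.ne_bot_of_dvd_card hd ((map_eq_bot_iff_of_injective _ M.subtype_injective).1 hb)
        · exact hU M hM hh.1 hd
    have hcomm : ¬ IsMulCommutative G := fun hc => hC (Or.inr fun P => ⟨fun a ha g => by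
      rw [show g * a * g⁻¹ = a from mul_inv_eq_iff_eq_mul.2 (hc.is_comm.comm g a)]; exact ha⟩)
    exact false_of_ctx ⟨h, hsimple, hnc, hcomm, hsub⟩

/-- Main theorem. -/
theorem concl {G : Type u} [Group G] [Finite G] {p : ℕ} [Fact p.Prime] (h : Hyp p G) : Concl p G :=
  concl_aux p (Nat.card G) G le_rfl h

end Cfsg.Agent.CyclicSylowAbelian
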